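import Cfsg.Agent.Characters.CCEstimates
import Mathlib.GroupTheory.Sylow
import Mathlib.GroupTheory.IndexNormal

/-!
# Subgroups containing Sylow subgroups of prime order

`T` a Sylow subgroup of `S` of prime order `p` with `|N_S(T)| = e p`: a subgroup `H` of `S` of index prime to `p` has
order `n t p`, `n ≡ 1 mod p`, `t ∣ e`.
-/

set_option autoImplicit false
set_option linter.unusedSectionVars false

namespace Cfsg.Agent.H404.SzPaw

open Cfsg

universe v

variable {S : Type v} [Group S] [Finite S]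

theorem card_normalizer_conj (A B : Subgroup S) (g : S) (h : B = A.map (MulAut.conj g).toMonoidHom) :
    Nat.card (Subgroup.normalizer (B : Set S)) = Nat.card (Subgroup.normalizer (A : Set S)) := by
  have h1 : Subgroup.normalizer (B : Set S) =
      (Subgroup.normalizer (A : Set S)).map (MulAut.conj g).toMonoidHom := by
    rw [h]
    exact (Subgroup.map_equiv_normalizer_eq A (MulAut.conj g)).symm
  rw [h1]
  exact (Nat.card_congr ((Subgroup.normalizer (A : Set S)).equivMapOfInjective _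
    (MulAut.conj g).injective).toEquiv).symm

theorem sylow_count {p : ℕ} (hp : p.Prime) {T : Subgroup S} (hT : Nat.card T = p) (hidx : ¬ p ∣ T.index) {e : ℕ}
    (he : Nat.card (Subgroup.normalizer (T : Set S)) = e * p) (H : Subgroup S) (hH : ¬ p ∣ H.index) :
    ∃ n t : ℕ, Nat.card H = n * (t * p) ∧ n % p = 1 ∧ t ∣ e := by
  classical
  have : Fact p.Prime := ⟨hp⟩
  have hpd : p ∣ Nat.card S := by
    rw [← hT]
    exact Subgroup.card_subgroup_dvd_card T
  have hp2 : ¬ p ^ 2 ∣ Nat.card S := by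
    intro h
    rw [← T.card_mul_index, hT, pow_two] at h
    exact hidx (Nat.dvd_of_mul_dvd_mul_left hp.pos h)
  have hpH : p ∣ Nat.card H := by
    rw [← H.card_mul_index] at hpd
    exact ((Nat.Prime.dvd_mul hp).1 hpd).resolve_right hH
  obtain ⟨P⟩ : Nonempty (Sylow p H) := inferInstance
  -- the order of `P`
  have hcop : ¬ p ∣ P.index := P.not_dvd_index
  have hPpow : ∃ k, Nat.card P = p ^ k := P.isPGroup'.exists_card_eq
  have hPdvd : Nat.card P ∣ Nat.card S :=
    (Subgroup.card_subgroup_dvd_card (P : Subgroup H)).trans (Subgroup.card_subgroup_dvd_card H)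
  have hPcard : Nat.card P = p := by
    obtain ⟨k, hk⟩ := hPpow
    have h1 : k ≠ 0 := by
      rintro rfl
      rw [pow_zero] at hk
      have h2 := (P : Subgroup H).card_mul_index
      rw [← h2] at hpH
      have h3 : Nat.card (P : Subgroup H) = 1 := hk
      rw [h3, one_mul] at hpH
      exact hcop hpH
    have h2 : k < 2 := by
      by_contra h
      apply hp2
      exact (pow_dvd_pow p (not_lt.1 h)).trans (hk ▸ hPdvd)
    have h3 : k = 1 := by omega
    rw [hk, h3, pow_one]
  let P' : Subgroup S := (P : Subgroup H).map H.subtype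
  have hP' : Nat.card P' = p := by
    rw [← hPcard]
    exact (Nat.card_congr ((P : Subgroup H).equivMapOfInjective _ H.subtype_injective).toEquiv).symm
  -- Sylow subgroups of `S`
  have hsyl : ∀ A : Subgroup S, Nat.card A = p → ∃ R : Sylow p S, (R : Subgroup S) = A := by
    intro A hA
    have h1 : IsPGroup p A := IsPGroup.of_card (n := 1) (by rw [hA, pow_one])
    obtain ⟨R, hR⟩ := h1.exists_le_sylow
    refine ⟨R, ?_⟩
    obtain ⟨k, hk⟩ := R.isPGroup'.exists_card_eq
    have h2 : Nat.card R ∣ Nat.card S := Subgroup.card_subgroup_dvd_card (R : Subgroup S)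
    have h3 : k < 2 := by
      by_contra h
      apply hp2
      exact (pow_dvd_pow p (not_lt.1 h)).trans (hk ▸ h2)
    symm
    apply Subgroup.eq_of_le_of_card_ge hR
    rw [hA]
    have h4 : Nat.card R = p ^ k := hk
    rw [h4]
    calc p ^ k ≤ p ^ 1 := Nat.pow_le_pow_right hp.pos (by omega)
      _ = p := pow_one p
  obtain ⟨R, hR⟩ := hsyl T hT
  obtain ⟨R', hR'⟩ := hsyl P' hP'
  obtain ⟨g, hg⟩ := MulAction.exists_smul_eq S R R'
  have hconj : P' = T.map (MulAut.conj g).toMonoidHom := by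
    rw [← hR', ← hg, ← hR]
    rfl
  have hN : Nat.card (Subgroup.normalizer (P' : Set S)) = e * p := by
    rw [card_normalizer_conj T P' g hconj, he]
  -- the normalizer in `H`
  let N : Subgroup H := Subgroup.normalizer ((P : Subgroup H) : Set H)
  have hNdvd : Nat.card N ∣ e * p := by
    rw [← hN]
    have h1 : N.map H.subtype ≤ Subgroup.normalizer (P' : Set S) := by
      rintro _ ⟨x, hx, rfl⟩
      rw [Subgroup.mem_normalizer_iff]
      intro y
      constructor
      · rintro ⟨z, hz, rfl⟩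
        exact ⟨x * z * x⁻¹, (Subgroup.mem_normalizer_iff.1 hx z).1 hz, rfl⟩
      · rintro ⟨z, hz, hzy⟩
        have h2 : (x⁻¹ * z * x : H) ∈ (P : Subgroup H) := by
          have h3 := (Subgroup.mem_normalizer_iff.1 hx (x⁻¹ * z * x)).2
          apply h3
          have h4 : x * (x⁻¹ * z * x) * x⁻¹ = z := by group
          rw [h4]
          exact hz
        refine ⟨x⁻¹ * z * x, h2, ?_⟩
        have h5 : (z : S) = x * y * (x : S)⁻¹ := hzy
        show (x : S)⁻¹ * z * x = y
        rw [h5]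
        group
    have h2 := Subgroup.card_dvd_of_le h1
    rwa [show Nat.card (N.map H.subtype) = Nat.card N from
      (Nat.card_congr (N.equivMapOfInjective _ H.subtype_injective).toEquiv).symm] at h2
  have hPN : p ∣ Nat.card N := by
    rw [← hPcard]
    exact Subgroup.card_dvd_of_le Subgroup.le_normalizer
  obtain ⟨t, ht⟩ := hPN
  refine ⟨Nat.card (Sylow p H), t, ?_, ?_, ?_⟩
  · have h1 : Nat.card (Sylow p H) = N.index := P.card_eq_index_normalizer
    rw [h1, mul_comm t p, ← ht, mul_comm, N.card_mul_index]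
  · have h1 := card_sylow_modEq_one p H
    have h2 : Nat.card (Sylow p H) % p = 1 % p := h1
    rw [h2, Nat.mod_eq_of_lt hp.one_lt]
  · rw [ht, mul_comm p t] at hNdvd
    exact Nat.dvd_of_mul_dvd_mul_right hp.pos hNdvd

set_option synthInstance.maxHeartbeats 400000 in
set_option synthInstance.maxSize 1024 in
set_option maxRecDepth 20000 in
theorem ar8 : ∀ i < 7, ∀ k < 2, ∀ t ∈ ({1, 2} : Finset ℕ), ∀ s ∈ ({1, 2, 4} : Finset ℕ),
    (29120 / (2 ^ i * 5 ^ k)) % (t * 7) = 0 → (29120 / (2 ^ i * 5 ^ k)) / (t * 7) % 7 = 1 →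
    (29120 / (2 ^ i * 5 ^ k)) % (s * 13) = 0 → (29120 / (2 ^ i * 5 ^ k)) / (s * 13) % 13 = 1 →
    i < 2 ∧ k = 0 := by
  decide

set_option synthInstance.maxHeartbeats 400000 in
set_option synthInstance.maxSize 1024 in
set_option maxRecDepth 20000 in
theorem ar32 : ∀ i < 11, ∀ k < 3, ∀ t ∈ ({1, 2} : Finset ℕ), ∀ s ∈ ({1, 2, 4} : Finset ℕ),
    (32537600 / (2 ^ i * 5 ^ k)) % (t * 31) = 0 → (32537600 / (2 ^ i * 5 ^ k)) / (t * 31) % 31 = 1 →
    (32537600 / (2 ^ i * 5 ^ k)) % (s * 41) = 0 → (32537600 / (2 ^ i * 5 ^ k)) / (s * 41) % 41 = 1 →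
    i < 2 ∧ k = 0 := by
  decide

theorem index_le_two {a b x y : ℕ} (ha : a.Prime) (hb : b.Prime) (hab : a ≠ b) (h2a : a ≠ 2) (h5a : a ≠ 5)
    (h2b : b ≠ 2) (h5b : b ≠ 5)
    (hcard : Nat.card S = 2 ^ x * 5 ^ y * (a * b)) {T A : Subgroup S} (hT : Nat.card T = a) (hA : Nat.card A = b)
    (hNT : Nat.card (Subgroup.normalizer (T : Set S)) = 2 * a)
    (hNA : Nat.card (Subgroup.normalizer (A : Set S)) = 4 * b)
    (har : ∀ i < x + 1, ∀ k < y + 1, ∀ t ∈ ({1, 2} : Finset ℕ), ∀ s ∈ ({1, 2, 4} : Finset ℕ),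
      (Nat.card S / (2 ^ i * 5 ^ k)) % (t * a) = 0 → (Nat.card S / (2 ^ i * 5 ^ k)) / (t * a) % a = 1 →
      (Nat.card S / (2 ^ i * 5 ^ k)) % (s * b) = 0 → (Nat.card S / (2 ^ i * 5 ^ k)) / (s * b) % b = 1 →
      i < 2 ∧ k = 0)
    (H : Subgroup S) (hHa : ¬ a ∣ H.index) (hHb : ¬ b ∣ H.index) : H.index ≤ 2 := by
  have hcop : ∀ p : ℕ, p.Prime → p ≠ 2 → p ≠ 5 → (p.Coprime (2 ^ x * 5 ^ y)) := by
    intro p hp h2 h5
    exact Nat.Coprime.mul_right (Nat.Coprime.pow_right _ ((Nat.coprime_primes hp Nat.prime_two).2 h2))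
      (Nat.Coprime.pow_right _ ((Nat.coprime_primes hp Nat.prime_five).2 h5))
  have hTi : ¬ a ∣ T.index := by
    intro h
    have h1 := T.card_mul_index
    rw [hT, hcard, mul_left_comm] at h1
    have h2 := Nat.eq_of_mul_eq_mul_left ha.pos h1
    rw [h2] at h
    rcases (Nat.Prime.dvd_mul ha).1 h with h | h
    · exact (Nat.Prime.coprime_iff_not_dvd ha).1 (hcop a ha h2a h5a) h
    · exact hab ((Nat.prime_dvd_prime_iff_eq ha hb).1 h)
  have hAi : ¬ b ∣ A.index := by
    intro h
    have h1 := A.card_mul_index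
    rw [hA, hcard, mul_comm a b, mul_left_comm] at h1
    have h2 := Nat.eq_of_mul_eq_mul_left hb.pos h1
    rw [h2] at h
    rcases (Nat.Prime.dvd_mul hb).1 h with h | h
    · exact (Nat.Prime.coprime_iff_not_dvd hb).1 (hcop b hb h2b h5b) h
    · exact hab ((Nat.prime_dvd_prime_iff_eq hb ha).1 h).symm
  obtain ⟨n, t, h1, h2, h3⟩ := sylow_count ha hT hTi hNT H hHa
  obtain ⟨n', s, h4, h5, h6⟩ := sylow_count hb hA hAi hNA H hHb
  have hidx : H.index ∣ 2 ^ x * 5 ^ y := by
    have h7 : H.index ∣ 2 ^ x * 5 ^ y * (a * b) := hcard ▸ H.index_dvd_card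
    refine Nat.Coprime.dvd_of_dvd_mul_right ?_ h7
    exact Nat.Coprime.mul_right ((Nat.Prime.coprime_iff_not_dvd ha).2 hHa).symm
      ((Nat.Prime.coprime_iff_not_dvd hb).2 hHb).symm
  obtain ⟨c, d, hc, hd, hcd⟩ := (Nat.dvd_mul).1 hidx
  obtain ⟨i, hi, rfl⟩ := (Nat.dvd_prime_pow Nat.prime_two).1 hc
  obtain ⟨k, hk, rfl⟩ := (Nat.dvd_prime_pow Nat.prime_five).1 hd
  have hpos : 0 < 2 ^ i * 5 ^ k := by positivity
  have hH : Nat.card S / (2 ^ i * 5 ^ k) = Nat.card H := by
    rw [hcd, ← H.card_mul_index]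
    exact Nat.mul_div_cancel _ (hcd ▸ hpos)
  have ht : t ∈ ({1, 2} : Finset ℕ) := by
    rcases (Nat.dvd_prime Nat.prime_two).1 h3 with h | h <;> simp [h]
  have hs : s ∈ ({1, 2, 4} : Finset ℕ) := by
    obtain ⟨j, hj, rfl⟩ := (Nat.dvd_prime_pow Nat.prime_two (m := 2)).1 h6
    interval_cases j <;> simp
  have hn : 0 < n := by
    rcases Nat.eq_zero_or_pos n with h | h
    · rw [h, zero_mul] at h1
      exact absurd h1 Nat.card_pos.ne'
    · exact h
  have key := har i (Nat.lt_succ_of_le hi) k (Nat.lt_succ_of_le hk) t ht s hs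
  rw [hH] at key
  have ht0 : 0 < t * a := by
    rcases Nat.eq_zero_or_pos (t * a) with h | h
    · rw [h, mul_zero] at h1
      exact absurd h1 Nat.card_pos.ne'
    · exact h
  have hs0 : 0 < s * b := by
    rcases Nat.eq_zero_or_pos (s * b) with h | h
    · rw [h, mul_zero] at h4
      exact absurd h4 Nat.card_pos.ne'
    · exact h
  have e1 : Nat.card H % (t * a) = 0 := by rw [h1]; exact Nat.mul_mod_left _ _
  have e2 : Nat.card H / (t * a) % a = 1 := by rw [h1, Nat.mul_div_cancel _ ht0]; exact h2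
  have e3 : Nat.card H % (s * b) = 0 := by rw [h4]; exact Nat.mul_mod_left _ _
  have e4 : Nat.card H / (s * b) % b = 1 := by rw [h4, Nat.mul_div_cancel _ hs0]; exact h5
  obtain ⟨hi2, hk0⟩ := key e1 e2 e3 e4
  rw [← hcd, hk0, pow_zero, mul_one]
  interval_cases i <;> norm_num

theorem eq_top_of_index [IsSimpleGroup S] (h4 : 2 < Nat.card S) {H : Subgroup S} (h : H.index ≤ 2) : H = ⊤ := by
  have h0 : H.index ≠ 0 := Subgroup.index_ne_zero_of_finite
  have h1 : H.index = 1 ∨ H.index = 2 := by omega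
  rcases h1 with h1 | h1
  · exact Subgroup.index_eq_one.1 h1
  · have hn : H.Normal := Subgroup.normal_of_index_eq_two h1
    rcases hn.eq_bot_or_eq_top with h2 | h2
    · rw [h2, Subgroup.index_bot] at h1
      omega
    · exact h2

/-- No proper subgroup of `Sz(8)` has index prime to `7` and `13`. -/
theorem ind8 [IsSimpleGroup S] (hcard : Nat.card S = 29120) {T A : Subgroup S} (hT : Nat.card T = 7)
    (hA : Nat.card A = 13) (hNT : Nat.card (Subgroup.normalizer (T : Set S)) = 2 * 7)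
    (hNA : Nat.card (Subgroup.normalizer (A : Set S)) = 4 * 13) (H : Subgroup S) (hHa : ¬ 7 ∣ H.index)
    (hHb : ¬ 13 ∣ H.index) : H = ⊤ := by
  refine eq_top_of_index (by omega) (index_le_two (x := 6) (y := 1) (by norm_num) (by norm_num) (by norm_num)
    (by norm_num) (by norm_num) (by norm_num) (by norm_num) (by rw [hcard]; norm_num) hT hA hNT hNA ?_ H hHa hHb)
  rw [hcard]
  exact ar8

/-- No proper subgroup of `Sz(32)` has index prime to `31` and `41`. -/
theorem ind32 [IsSimpleGroup S] (hcard : Nat.card S = 32537600) {T A : Subgroup S} (hT : Nat.card T = 31)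
    (hA : Nat.card A = 41) (hNT : Nat.card (Subgroup.normalizer (T : Set S)) = 2 * 31)
    (hNA : Nat.card (Subgroup.normalizer (A : Set S)) = 4 * 41) (H : Subgroup S) (hHa : ¬ 31 ∣ H.index)
    (hHb : ¬ 41 ∣ H.index) : H = ⊤ := by
  refine eq_top_of_index (by omega) (index_le_two (x := 10) (y := 2) (by norm_num) (by norm_num) (by norm_num)
    (by norm_num) (by norm_num) (by norm_num) (by norm_num) (by rw [hcard]; norm_num) hT hA hNT hNA ?_ H hHa hHb)
  rw [hcard]
  exact ar32

end Cfsg.Agent.H404.SzPaw
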