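import Cfsg.Agent.H404.SzPaw.Hit
import Cfsg.Agent.H404.SzPaw.Index
import Cfsg.Agent.H678.SuzGraph

/-!
# The tori of the Suzuki groups
-/

set_option autoImplicit false
set_option linter.unusedSectionVars false

namespace Cfsg.Agent.H404.SzPaw

open Cfsg MulAction
open scoped ComplexConjugate
open Cfsg.Agent.Characters.CCBasic Cfsg.Agent.Characters.CCEstimates
open Cfsg.Agent.H525.L2 Cfsg.Agent.H678 Cfsg.Agent.H355.SzFix

universe u v

/-- The three tori of a Suzuki group over a field of order `q`, `r = √(2q)`. -/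
structure Tori (S : Type v) [Group S] (T A B : Subgroup S) (q r : ℕ) : Prop where
  cyT : IsCyclic T
  cyA : IsCyclic A
  cyB : IsCyclic B
  ccT : IsCC T
  ccA : IsCC A
  ccB : IsCC B
  lT : len T = 2
  lA : len A = 4
  lB : len B = 4
  kT : Nat.card T + 1 = q
  kA : Nat.card A = q + r + 1
  kB : Nat.card B + r = q + 1
  kS : Nat.card S = q ^ 2 * (q ^ 2 + 1) * (q - 1)

theorem exists_tori {F : Type u} [Field F] [Fintype F] {m : ℕ} (hm : 1 ≤ m)
    (hF : Fintype.card F = 2 ^ (2 * m + 1)) :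
    ∃ T A B : Subgroup (Sz F m), Tori (Sz F m) T A B (2 ^ (2 * m + 1)) (2 ^ (m + 1)) := by
  classical
  have : Fintype (Sz F m) := Fintype.ofFinite _
  have hq8 : 8 ≤ 2 ^ (2 * m + 1) := by
    calc 8 = 2 ^ 3 := by norm_num
      _ ≤ 2 ^ (2 * m + 1) := Nat.pow_le_pow_right (by norm_num) (by omega)
  have hXcard : Nat.card (suzukiOvoid F m) = (2 ^ (2 * m + 1)) ^ 2 + 1 := by
    rw [S0326.result, hF]
  have : Finite (suzukiOvoid F m) := Nat.finite_of_card_ne_zero (by rw [hXcard]; omega)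
  obtain ⟨-, h2, h3, -, -⟩ := S0327.result hm hF
  have hXodd : Odd (Nat.card (suzukiOvoid F m)) := by
    rw [hXcard]
    refine Even.add_one (Even.pow_of_ne_zero ?_ (by norm_num))
    exact (even_two).pow_of_ne_zero (by omega)
  have hxy : inf F m ≠ zer F m := inf_ne_zer
  set T := (stabilizer (Sz F m) (inf F m) ⊓ stabilizer (Sz F m) (zer F m) :
    Subgroup (Sz F m)) with hT
  obtain ⟨eT⟩ : Nonempty (T ≃* Fˣ) := by
    rw [hT, SuzDegs.T_eq]
    exact S0328.result hm hF
  have cT : Nat.card T + 1 = 2 ^ (2 * m + 1) := by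
    rw [Nat.card_congr eT.toEquiv, Nat.card_eq_fintype_card, Fintype.card_units, hF]
    omega
  have hTodd : Odd (Nat.card T) := by
    have h : Even (2 ^ (2 * m + 1)) := (even_two).pow_of_ne_zero (by omega)
    rw [← cT] at h
    exact Nat.even_add_one.1 h |> Nat.not_even_iff_odd.1
  have hTne : T ≠ ⊥ := by
    intro h
    rw [h, Subgroup.card_bot] at cT
    omega
  have hTcomm : ∀ a ∈ T, ∀ b ∈ T, a * b = b * a := by
    intro a ha b hb
    have h : (⟨a, ha⟩ : T) * ⟨b, hb⟩ = ⟨b, hb⟩ * ⟨a, ha⟩ := by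
      apply eT.injective
      rw [map_mul, map_mul, mul_comm]
    exact congrArg Subtype.val h
  have hTcc : IsCC T := ZassTorus.isCC h3 hxy hXodd h2 hTodd hTne hTcomm
  have hTlen : len T = 2 := ZassTorus.len_eq h3 hxy h2 hTne
  have hTcy : IsCyclic T := isCyclic_of_surjective eT.symm eT.symm.surjective
  have htor : ∀ c : ℕ, c ∈ ({2 ^ (2 * m + 1) + 2 ^ (m + 1) + 1,
      2 ^ (2 * m + 1) - 2 ^ (m + 1) + 1} : Set ℕ) → 2 ≤ c →
      ∃ U : Subgroup (Sz F m), IsCyclic U ∧ Nat.card U = c ∧ IsCC U ∧ len U = 4 := by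
    intro c hc hc2
    obtain ⟨U, hcy, hU, hcent, hN⟩ := S0333.result hm hF c hc
    refine ⟨U, hcy, hU, ⟨?_, hcent⟩, ?_⟩
    · rintro rfl
      rw [Subgroup.card_bot] at hU
      omega
    · rw [len, hN, hU, Nat.mul_div_cancel _ (by omega)]
  have hle : 2 * 2 ^ (m + 1) ≤ 2 ^ (2 * m + 1) := by
    rw [← pow_succ']
    exact Nat.pow_le_pow_right (by norm_num) (by omega)
  have hr4 : 4 ≤ 2 ^ (m + 1) := by
    calc 4 = 2 ^ 2 := by norm_num
      _ ≤ 2 ^ (m + 1) := Nat.pow_le_pow_right (by norm_num) (by omega)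
  obtain ⟨A, cyA, cA, hAcc, hAlen⟩ := htor _ (Or.inl rfl) (by omega)
  obtain ⟨B, cyB, cB, hBcc, hBlen⟩ := htor _ (Or.inr rfl) (by omega)
  exact ⟨T, A, B, hTcy, cyA, cyB, hTcc, hAcc, hBcc, hTlen, hAlen, hBlen, cT, cA, by omega,
    S0324.result hm hF⟩

variable {S : Type v} [Group S] [Finite S] {T A B : Subgroup S}

/-- Some degree over a linear character of a central kernel is divisible by `q - 1` (`q = 8`, `32`). -/
theorem Tori.exists_dvd {q r : ℕ} (D : Tori S T A B q r) {a b c : ℕ} (ha : 2 * a + 2 = q) (hb : 4 * b = q + r)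
    (hc : 4 * c + r = q) (h1 : (q - 1).Coprime (q + r + 1)) (h2 : (q - 1).Coprime (q - r + 1))
    (h3 : (q + r + 1).Coprime (q - r + 1)) (Q : Type u) [Group Q] [Finite Q] (π : Q →* S) (l : π.ker →* ℂˣ)
    (hs : Function.Surjective π) (hcen : π.ker ≤ Subgroup.center Q) :
    ∃ β : IrrCharacter Q, Over π l (β : Q → ℂ) ∧ q - 1 ∣ charDegree (β : Q → ℂ) := by
  have := D.cyT
  have := D.cyA
  have := D.cyB
  have kT : Nat.card T = q - 1 := by have := D.kT; omega
  have kB : Nat.card B = q - r + 1 := by have := D.kB; omega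
  have h := SzPaw.exists_dvd l hs hcen D.ccT D.ccA D.ccB (by rw [kT, D.kA]; exact h1) (by rw [kT, kB]; exact h2)
    (by rw [D.kA, kB]; exact h3) (a := a) (b := b) (c := c) (by rw [D.lT, kT]; omega) (by rw [D.lA, D.kA]; omega)
    (by rw [D.lB, kB]; omega) (by rw [kT]; omega)
  rwa [kT] at h

theorem Tori.card_normalizer_T {q r : ℕ} (D : Tori S T A B q r) :
    Nat.card (Subgroup.normalizer (T : Set S)) = 2 * (q - 1) := by
  have h := len_mul_card T
  have h1 := D.kT
  rw [D.lT] at h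
  rw [← h]
  omega

theorem Tori.card_normalizer_A {q r : ℕ} (D : Tori S T A B q r) :
    Nat.card (Subgroup.normalizer (A : Set S)) = 4 * (q + r + 1) := by
  have h := len_mul_card A
  rw [D.lA, D.kA] at h
  exact h.symm

/-- `Hit {7, 13}` for `Sz(8)`. -/
theorem hit8 [IsSimpleGroup S] (D : Tori S T A B 8 4) : Cfsg.Agent.H670.Reg.Hit.{u, v} {7, 13} S :=
  hit (ind8 (by rw [D.kS]; norm_num) (by have := D.kT; omega) D.kA D.card_normalizer_T D.card_normalizer_A)
    (D.exists_dvd (a := 3) (b := 3) (c := 1) (by norm_num) (by norm_num) (by norm_num) (by norm_num) (by norm_num)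
      (by norm_num))

/-- `Hit {31, 41}` for `Sz(32)`. -/
theorem hit32 [IsSimpleGroup S] (D : Tori S T A B 32 8) : Cfsg.Agent.H670.Reg.Hit.{u, v} {31, 41} S :=
  hit (ind32 (by rw [D.kS]; norm_num) (by have := D.kT; omega) D.kA D.card_normalizer_T D.card_normalizer_A)
    (D.exists_dvd (a := 15) (b := 10) (c := 6) (by norm_num) (by norm_num) (by norm_num) (by norm_num) (by norm_num)
      (by norm_num))

end Cfsg.Agent.H404.SzPaw
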