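import Cfsg.Agent.H404.SzPaw.Lower
import Cfsg.Agent.H525.L2.Main
import Cfsg.Agent.H670.Reg.Defs

/-!
# Ratios of degrees above a simple group

If no proper subgroup of `S` has index prime to `a` and `b`, and some degree over every linear character of a central
kernel is divisible by `a`, then `Hit {a, b} S`.
-/

set_option autoImplicit false
set_option linter.unusedSectionVars false

namespace Cfsg.Agent.H404.SzPaw

open Cfsg
open scoped ComplexConjugate
open Cfsg.Agent.Characters.Core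
open Cfsg.Agent.H595.Count Cfsg.Agent.H595.Central Cfsg.Agent.H595.Triple
open Cfsg.Agent.H525.L2

universe u v

section

variable {X : Type u} [Group X] [Finite X] (M : Subgroup X) [hM : M.Normal] [Fintype M] (θ : IrrCharacter M)

/-- The characters over the linear character of the central extension attached to `θ` and its inertia group. -/
theorem exists_cover : ∃ T : Subgroup X, M ≤ T ∧
    (∀ g : X, g ∈ T ↔ ∀ n : M, (θ : M → ℂ) ⟨g * n * g⁻¹, hM.conj_mem (n : X) n.2 g⟩ = (θ : M → ℂ) n) ∧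
    ∃ (Q : Type u) (_ : Group Q) (_ : Finite Q) (π : Q →* T ⧸ M.subgroupOf T) (l : π.ker →* ℂˣ),
      Function.Surjective π ∧ π.ker ≤ Subgroup.center Q ∧
      ∀ β : IrrCharacter Q, Over π l (β : Q → ℂ) →
        ∃ χ : IrrCharacter X, classInner (fun m : M => (χ : X → ℂ) m) (θ : M → ℂ) ≠ 0 ∧
          charDegree (χ : X → ℂ) = (T.index * charDegree (β : Q → ℂ)) * charDegree (θ : M → ℂ) := by
  classical
  have := Fintype.ofFinite X
  set T := Cfsg.Agent.H672.inertia M (θ : M → ℂ) with hTdef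
  have := Fintype.ofFinite T
  have hT : ∀ g : X, g ∈ T ↔ ∀ n : M, (θ : M → ℂ) ⟨g * n * g⁻¹, hM.conj_mem (n : X) n.2 g⟩ =
      (θ : M → ℂ) n := fun g => Cfsg.Agent.H672.mem_inertia_iff
  have hMT : M ≤ T := Cfsg.Agent.H672.le_inertia (isIrr_isClassFunction θ.2)
  let N : Subgroup T := M.subgroupOf T
  let eN : N ≃* M := Subgroup.subgroupOfEquivOfLe hMT
  let θ' : IrrCharacter N := ⟨(θ : M → ℂ) ∘ eN, isIrr_comp eN.toMonoidHom eN.surjective θ.2⟩
  have hinv : CInv N (θ' : N → ℂ) := by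
    intro x n
    exact (hT x).1 x.2 (eN n)
  obtain ⟨Q, hg, hfin, π, l, hs, hc, hl, H⟩ := exists_red N θ' hinv
  refine ⟨T, hMT, hT, Q, hg, hfin, π, l, hs, hc, fun β hβ => ?_⟩
  obtain ⟨ψ, hψ⟩ := H β hβ
  have hψ' : ∀ m : M, (ψ : T → ℂ) ⟨m, hMT m.2⟩ =
      (charDegree (β : Q → ℂ) : ℂ) * (θ : M → ℂ) m := by
    intro m
    have := hψ ⟨⟨m, hMT m.2⟩, m.2⟩
    rw [(deg_spec β.2).1] at this
    exact this
  obtain ⟨h1, h2, h3⟩ := over_ind M θ.2 T hT hMT ψ.2 (deg_spec β.2).2.ne' hψ'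
  refine ⟨⟨_, h1⟩, h3, ?_⟩
  have h4 := hψ' 1
  have h5 : (⟨((1 : M) : X), hMT (1 : M).2⟩ : T) = 1 := rfl
  rw [h5, (deg_spec θ.2).1] at h4
  rw [h4, (deg_spec h1).1] at h2
  have h6 : charDegree (indFun T (ψ : T → ℂ)) =
      T.index * (charDegree (β : Q → ℂ) * charDegree (θ : M → ℂ)) := by exact_mod_cast h2
  rw [mul_assoc]
  exact h6

end

/-- The image of a subgroup between `M` and `X` in the quotient. -/
theorem exists_image {X : Type u} [Group X] (M : Subgroup X) [hM : M.Normal] {S : Type v} [Group S]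
    (e : X ⧸ M ≃* S) (T : Subgroup X) (hMT : M ≤ T) :
    ∃ H : Subgroup S, H.index = T.index ∧ Nonempty (T ⧸ M.subgroupOf T ≃* H) := by
  let f : X →* S := e.toMonoidHom.comp (QuotientGroup.mk' M)
  have hf : Function.Surjective f := e.surjective.comp (QuotientGroup.mk'_surjective M)
  have hker : f.ker = M := by
    ext x
    rw [MonoidHom.mem_ker]
    show e ((x : X) : X ⧸ M) = 1 ↔ _
    rw [e.map_eq_one_iff, QuotientGroup.eq_one_iff]
  refine ⟨T.map f, ?_, ?_⟩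
  · exact Subgroup.index_map_eq T hf (hker.le.trans hMT)
  · let g : T →* T.map f := f.subgroupMap T
    have hg : g.ker = M.subgroupOf T := by
      ext x
      rw [MonoidHom.mem_ker, Subgroup.mem_subgroupOf, ← hker, MonoidHom.mem_ker]
      exact Subtype.ext_iff
    exact ⟨(QuotientGroup.quotientMulEquivOfEq hg.symm).trans
      (QuotientGroup.quotientKerEquivOfSurjective g (f.subgroupMap_surjective T))⟩

/-- **The criterion for `Hit`.** -/
theorem hit {S : Type v} [Group S] [Finite S] {a b : ℕ}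
    (hInd : ∀ H : Subgroup S, ¬ a ∣ H.index → ¬ b ∣ H.index → H = ⊤)
    (hEx : ∀ (Q : Type u) [Group Q] [Finite Q] (π : Q →* S) (l : π.ker →* ℂˣ), Function.Surjective π →
      π.ker ≤ Subgroup.center Q → ∃ β : IrrCharacter Q, Over π l (β : Q → ℂ) ∧ a ∣ charDegree (β : Q → ℂ)) :
    Cfsg.Agent.H670.Reg.Hit.{u, v} {a, b} S := by
  intro X _ _ M _ _ hS θ
  obtain ⟨e⟩ := hS
  obtain ⟨T, hMT, -, Q, hg, hfin, π, l, hs, hc, H⟩ := exists_cover M θ
  obtain ⟨K, hK, ⟨eK⟩⟩ := exists_image M e T hMT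
  obtain ⟨β0, hβ0⟩ := exists_over l hs hc
  by_cases ha : a ∣ T.index
  · obtain ⟨χ, h1, h2⟩ := H β0 hβ0
    exact ⟨χ, h1, _, a, Or.inl rfl, dvd_mul_of_dvd_left ha _, h2⟩
  by_cases hb : b ∣ T.index
  · obtain ⟨χ, h1, h2⟩ := H β0 hβ0
    exact ⟨χ, h1, _, b, Or.inr rfl, dvd_mul_of_dvd_left hb _, h2⟩
  have hKt : K = ⊤ := hInd K (by rwa [hK]) (by rwa [hK])
  subst hKt
  let e' : T ⧸ M.subgroupOf T ≃* S := eK.trans Subgroup.topEquiv
  let π' : Q →* S := e'.toMonoidHom.comp π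
  have hk : ∀ z : Q, z ∈ π'.ker ↔ z ∈ π.ker := by
    intro z
    rw [MonoidHom.mem_ker, MonoidHom.mem_ker]
    exact e'.map_eq_one_iff
  let l' : π'.ker →* ℂˣ := l.comp (Subgroup.inclusion (fun z hz => (hk z).1 hz))
  obtain ⟨β, hβ, hd⟩ := hEx Q π' l' (e'.surjective.comp hs) (fun z hz => hc ((hk z).1 hz))
  obtain ⟨χ, h1, h2⟩ := H β (fun x z => hβ x ⟨z, (hk z).2 z.2⟩)
  exact ⟨χ, h1, _, a, Or.inl rfl, dvd_mul_of_dvd_right hd _, h2⟩

end Cfsg.Agent.H404.SzPaw
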