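import Cfsg.Agent.H404.SzPaw.Upper

/-!
# The number of irreducible characters over `l`, from below

Every cyclic CC-subgroup `A` of `S`, `|A| = s e + 1`, `|N_S(A)| = e |A|`, contributes `s`.
-/

set_option autoImplicit false
set_option linter.unusedSectionVars false

namespace Cfsg.Agent.H404.SzPaw

open Cfsg
open scoped ComplexConjugate
open Cfsg.Agent.Characters.Core Cfsg.Agent.Characters.CCBasic Cfsg.Agent.Characters.CCCounting
  Cfsg.Agent.Characters.CCEstimates
open Cfsg.Agent.H595.Count Cfsg.Agent.H595.Central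
open Cfsg.Agent.H525.L2

universe u v

variable {Q : Type u} [Group Q] [Finite Q] {S : Type v} [Group S] {π : Q →* S} (l : π.ker →* ℂˣ)

/-- The sum of `|β|²` as a function on `S`. -/
noncomputable def Gn [Fintype (IrrCharacter Q)] (hs : Function.Surjective π) (s : S) : ℝ :=
  Fn l (Function.surjInv hs s)

theorem Gn_apply [Fintype (IrrCharacter Q)] (hs : Function.Surjective π) (x : Q) : Gn l hs (π x) = Fn l x :=
  Fn_congr l (Function.surjInv_eq hs (π x))

theorem Gn_conj [Fintype (IrrCharacter Q)] (hs : Function.Surjective π) (g h : S) :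
    Gn l hs (h * g * h⁻¹) = Gn l hs g := by
  obtain ⟨x, rfl⟩ := hs g
  obtain ⟨y, rfl⟩ := hs h
  rw [← map_inv, ← map_mul, ← map_mul, Gn_apply, Gn_apply, Fn_conj]

theorem Gn_nonneg [Fintype (IrrCharacter Q)] (hs : Function.Surjective π) (s : S) : 0 ≤ Gn l hs s :=
  Fn_nonneg l _

theorem Gn_one [Fintype (IrrCharacter Q)] (hs : Function.Surjective π) (hc : π.ker ≤ Subgroup.center Q) :
    Gn l hs 1 = Nat.card S := by
  rw [← map_one π, Gn_apply, Fn_one l hs hc]

theorem Gn_cc [Fintype (IrrCharacter Q)] (hs : Function.Surjective π) (hc : π.ker ≤ Subgroup.center Q)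
    {A : Subgroup S} [IsCyclic A] (hA : IsCC A) {a : S} (ha : a ∈ A) (ha1 : a ≠ 1) :
    Gn l hs a = Nat.card A := by
  obtain ⟨x, rfl⟩ := hs a
  rw [Gn_apply, Fn_eq l hs hc, hA.cent (π x) ha ha1]
  intro y hy
  exact comm_comap hc A y (hA.mem_of_comm ha ha1 hy) x ha

theorem card_fiber_eq (s : S) (hs : Function.Surjective π) [Fintype Q] [DecidableEq S] :
    (Finset.univ.filter (fun x : Q => π x = s)).card = Nat.card π.ker := by
  classical
  obtain ⟨x0, rfl⟩ := hs s
  rw [← Fintype.card_subtype, ← Nat.card_eq_fintype_card]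
  exact Nat.card_congr
    { toFun := fun v => ⟨x0⁻¹ * v.1, by rw [MonoidHom.mem_ker, map_mul, map_inv, v.2, inv_mul_cancel]⟩
      invFun := fun z => ⟨x0 * z.1, by rw [map_mul, MonoidHom.mem_ker.1 z.2, mul_one]⟩
      left_inv := fun v => Subtype.ext (mul_inv_cancel_left _ _)
      right_inv := fun z => Subtype.ext (inv_mul_cancel_left _ _) }

/-- The number of irreducible characters over `l`, as a sum over `S`. -/
theorem card_Ov_mul [Fintype (IrrCharacter Q)] [Fintype S] (hs : Function.Surjective π) :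
    ((Ov l).card : ℝ) * Nat.card S = ∑ s : S, Gn l hs s := by
  classical
  have := Fintype.ofFinite Q
  have h1 : ∑ x : Q, Fn l x = ((Ov l).card : ℝ) * Nat.card Q := by
    unfold Fn
    rw [Finset.sum_comm, Finset.card_eq_sum_ones, Nat.cast_sum, Finset.sum_mul]
    refine Finset.sum_congr rfl fun β _ => ?_
    have h2 := classInner_self_eq_ofReal (β : Q → ℂ)
    rw [classInner_irr_self β.2] at h2
    have h3 : (1 : ℝ) = (Nat.card Q : ℝ)⁻¹ * ∑ g : Q, Complex.normSq ((β : Q → ℂ) g) := by exact_mod_cast h2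
    have h4 : (Nat.card Q : ℝ) ≠ 0 := Nat.cast_ne_zero.2 Nat.card_pos.ne'
    rw [Nat.cast_one, h3, mul_comm ((Nat.card Q : ℝ)⁻¹ * _), mul_inv_cancel_left₀ h4]
  have h5 : ∑ x : Q, Fn l x = (Nat.card π.ker : ℝ) * ∑ s : S, Gn l hs s := by
    rw [Finset.sum_congr rfl fun x _ => (Gn_apply l hs x).symm, ← Finset.sum_fiberwise Finset.univ (fun x : Q => π x),
      Finset.mul_sum]
    refine Finset.sum_congr rfl fun s _ => ?_
    rw [Finset.sum_congr rfl fun x hx => by rw [(Finset.mem_filter.1 hx).2], Finset.sum_const, nsmul_eq_mul,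
      card_fiber_eq s hs]
  rw [h1, ← card_ker_mul hs, Nat.cast_mul, mul_left_comm] at h5
  have h6 : (Nat.card π.ker : ℝ) ≠ 0 := Nat.cast_ne_zero.2 Nat.card_pos.ne'
  exact mul_left_cancel₀ h6 h5

open scoped Classical in
/-- The contribution of a cyclic CC-subgroup. -/
theorem sum_cc [Fintype (IrrCharacter Q)] [Fintype S] (hs : Function.Surjective π) (hc : π.ker ≤ Subgroup.center Q)
    {A : Subgroup S} [IsCyclic A] (hA : IsCC A) {s : ℕ} (h : s * len A + 1 = Nat.card A) :
    ∑ y ∈ Finset.univ.filter (fun y : S => InConj A y), Gn l hs y = s * Nat.card S := by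
  have := Fintype.ofFinite A
  have h1 := sum_inConj hA (Gn l hs) (fun g h => Gn_conj l hs g h)
  have h2 : ∑ a ∈ Finset.univ.filter (fun a : A => a ≠ 1), Gn l hs (a : S) = (Nat.card A - 1) * Nat.card A := by
    have e1 : ∀ a ∈ Finset.univ.filter (fun a : A => a ≠ 1), Gn l hs (a : S) = Nat.card A := fun a ha =>
      Gn_cc l hs hc hA a.2 (fun h => (Finset.mem_filter.1 ha).2 (Subtype.ext h))
    rw [Finset.sum_congr rfl e1, Finset.sum_const, nsmul_eq_mul]
    congr 1
    rw [Finset.filter_ne', Finset.card_erase_of_mem (Finset.mem_univ _), Finset.card_univ,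
      Nat.card_eq_fintype_card, Nat.cast_sub Fintype.card_pos]
    simp
  rw [h2, ← len_mul_card] at h1
  have h3 : (Nat.card A : ℝ) ≠ 0 := Nat.cast_ne_zero.2 Nat.card_pos.ne'
  have h4 : ((len A : ℕ) : ℝ) ≠ 0 := by
    have h5 := len_mul_card A
    intro h6
    rw [Nat.cast_eq_zero.1 h6, zero_mul] at h5
    exact Nat.card_pos.ne h5
  have h5 : (Nat.card A : ℝ) - 1 = s * len A := by
    rw [← h]
    push_cast
    ring
  rw [h5] at h1
  push_cast at h1
  apply mul_left_cancel₀ (mul_ne_zero h4 h3)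
  rw [h1]
  ring

theorem not_inConj_both {A B : Subgroup S} (hcop : (Nat.card A).Coprime (Nat.card B)) {y : S}
    (hA : InConj A y) (hB : InConj B y) : False := by
  obtain ⟨a, ha, ha1, hc⟩ := hA
  obtain ⟨b, hb, hb1, hd⟩ := hB
  have h1 : orderOf a ∣ Nat.card A := Subgroup.orderOf_dvd_natCard A ha
  have h2 : orderOf b ∣ Nat.card B := Subgroup.orderOf_dvd_natCard B hb
  obtain ⟨c, hc⟩ := isConj_iff.1 (hc.trans hd.symm)
  have h3 : orderOf b = orderOf a := by
    rw [← hc]
    have := orderOf_injective (MulAut.conj c).toMonoidHom (MulAut.conj c).injective a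
    simpa using this
  rw [h3] at h2
  exact ha1 (orderOf_eq_one_iff.1 (Nat.eq_one_of_dvd_coprimes hcop h1 h2))

/-- Three CC-subgroups. -/
theorem card_Ov_ge [Fintype (IrrCharacter Q)] (hs : Function.Surjective π) (hc : π.ker ≤ Subgroup.center Q)
    {A B C : Subgroup S} [IsCyclic A] [IsCyclic B] [IsCyclic C] (hA : IsCC A) (hB : IsCC B) (hC : IsCC C)
    (hAB : (Nat.card A).Coprime (Nat.card B)) (hAC : (Nat.card A).Coprime (Nat.card C))
    (hBC : (Nat.card B).Coprime (Nat.card C)) {a b c : ℕ} (ha : a * len A + 1 = Nat.card A)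
    (hb : b * len B + 1 = Nat.card B) (hc' : c * len C + 1 = Nat.card C) : 1 + a + b + c ≤ (Ov l).card := by
  classical
  have hfS : Finite S := Finite.of_surjective π hs
  have := Fintype.ofFinite S
  let U : Subgroup S → Finset S := fun A => Finset.univ.filter (fun y : S => InConj A y)
  have hdis : ∀ A B : Subgroup S, (Nat.card A).Coprime (Nat.card B) → Disjoint (U A) (U B) := by
    intro A B h
    rw [Finset.disjoint_left]
    intro y h1 h2
    exact not_inConj_both h (Finset.mem_filter.1 h1).2 (Finset.mem_filter.1 h2).2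
  have hone : ∀ A : Subgroup S, Disjoint {(1 : S)} (U A) := by
    intro A
    rw [Finset.disjoint_singleton_left]
    intro h
    exact one_not_inConj A (Finset.mem_filter.1 h).2
  have h1 : ∑ y ∈ (({(1 : S)} ∪ U A) ∪ U B) ∪ U C, Gn l hs y ≤ ∑ y, Gn l hs y :=
    Finset.sum_le_sum_of_subset_of_nonneg (Finset.subset_univ _) fun y _ _ => Gn_nonneg l hs y
  rw [Finset.sum_union, Finset.sum_union, Finset.sum_union, Finset.sum_singleton, Gn_one l hs hc,
    sum_cc l hs hc hA ha, sum_cc l hs hc hB hb, sum_cc l hs hc hC hc', ← card_Ov_mul l hs] at h1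
  · have h2 : (0 : ℝ) < Nat.card S := Nat.cast_pos.2 Nat.card_pos
    have h3 : ((1 + a + b + c : ℕ) : ℝ) * Nat.card S ≤ (Ov l).card * Nat.card S := by
      push_cast
      linarith
    exact_mod_cast le_of_mul_le_mul_right h3 h2
  · exact hone A
  · rw [Finset.disjoint_union_left]
    exact ⟨hone B, hdis A B hAB⟩
  · rw [Finset.disjoint_union_left, Finset.disjoint_union_left]
    exact ⟨⟨hone C, hdis A C hAC⟩, hdis B C hBC⟩

/-- **Some degree over `l` is divisible by the order of the CC-subgroup `A`**, if the CC-subgroups contribute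
more than `|A|`. -/
theorem exists_dvd (hs : Function.Surjective π) (hc : π.ker ≤ Subgroup.center Q)
    {A B C : Subgroup S} [IsCyclic A] [IsCyclic B] [IsCyclic C] (hA : IsCC A) (hB : IsCC B) (hC : IsCC C)
    (hAB : (Nat.card A).Coprime (Nat.card B)) (hAC : (Nat.card A).Coprime (Nat.card C))
    (hBC : (Nat.card B).Coprime (Nat.card C)) {a b c : ℕ} (ha : a * len A + 1 = Nat.card A)
    (hb : b * len B + 1 = Nat.card B) (hc' : c * len C + 1 = Nat.card C) (hlt : Nat.card A < 1 + a + b + c) :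
    ∃ β : IrrCharacter Q, Over π l (β : Q → ℂ) ∧ Nat.card A ∣ charDegree (β : Q → ℂ) := by
  have := finite_irr (G := Q)
  have := Fintype.ofFinite (IrrCharacter Q)
  by_contra hcon
  push Not at hcon
  have h1 := card_Ov_le l hs hc hA (fun β hβ => hcon β ((mem_Ov l).1 hβ))
  have h2 := card_Ov_ge l hs hc hA hB hC hAB hAC hBC ha hb hc'
  omega

end Cfsg.Agent.H404.SzPaw
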