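import Cfsg.Agent.H404.SzPaw.Out
import Cfsg.Agent.H404.SzPaw.Arith
import Cfsg.Agent.H595.AvgTwoK

/-!
# The Suzuki groups with four prime divisors

`paw_sz`: `Sz(q)` with exactly four prime divisors (`q = 8` or `32`) satisfies `Paw`.
-/

set_option autoImplicit false
set_option linter.unusedSectionVars false

namespace Cfsg.Agent.H404.SzPaw

open Cfsg
open scoped ComplexConjugate
open Cfsg.Agent.Characters Cfsg.Agent.Characters.Core Cfsg.Agent.Characters.CCBasic
  Cfsg.Agent.Characters.CCEstimates Cfsg.Agent.Characters.CCValues Cfsg.Agent.H678 Cfsg.Agent.H678.CCExact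
open Cfsg.Agent.H595.Count Cfsg.Agent.H595.Central
open Cfsg.Agent.H525.L2
open Cfsg.Agent.H670.Reg (Hit OutHit Paw)

universe u v w

theorem hit_congr {S : Type v} {S' : Type w} [Group S] [Group S'] (e : S ≃* S') {A : Set ℕ} (h : Hit.{u, v} A S) :
    Hit.{u, w} A S' := by
  intro X _ _ M _ _ hS θ
  obtain ⟨f⟩ := hS
  exact h X M ⟨f.trans e.symm⟩ θ

theorem outHit_congr {S : Type v} {S' : Type w} [Group S] [Group S'] (e : S ≃* S') {A : Set ℕ}
    (h : OutHit.{u, v} A S) : OutHit.{u, w} A S' := by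
  intro Γ _ _ N _ hN hc t ht htN hts
  obtain ⟨f⟩ := hN
  exact h Γ N ⟨f.trans e.symm⟩ hc t ht htN (by rwa [Nat.card_congr e.toEquiv])

/-- Some degree is divisible by `t` times the degree of a moved character. -/
theorem exists_degree {Γ : Type u} [Group Γ] [Finite Γ] (N : Subgroup Γ) [hN : N.Normal] {t : ℕ} (ht : t.Prime)
    (hidx : N.index = t) (χ : IrrCharacter N) {g : Γ} (hg : ¬ ∀ n : N,
      (χ : N → ℂ) ⟨g * n * g⁻¹, hN.conj_mem (n : Γ) n.2 g⟩ = (χ : N → ℂ) n) :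
    ∃ d ∈ charDegrees Γ, t * charDegree (χ : N → ℂ) ∣ d := by
  classical
  have := Fintype.ofFinite N
  obtain ⟨T, hNT, hT, Q, _, _, π, l, hs, hc, H⟩ := exists_cover N χ
  obtain ⟨β, hβ⟩ := exists_over l hs hc
  obtain ⟨ψ, -, hd⟩ := H β hβ
  have hTi : T.index = t := by
    have h1 : T.index ∣ t := hidx ▸ Subgroup.index_dvd_of_le hNT
    rcases (Nat.dvd_prime ht).1 h1 with h2 | h2
    · exfalso
      rw [Subgroup.index_eq_one] at h2
      exact hg ((hT g).1 (h2 ▸ Subgroup.mem_top g))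
    · exact h2
  refine ⟨_, ⟨ψ, rfl⟩, ?_⟩
  rw [hd, hTi]
  exact ⟨charDegree (β : Q → ℂ), by ring⟩

/-- The outer automorphism group of a Suzuki group. -/
theorem index_dvd {F : Type w} [Field F] [Fintype F] {m : ℕ} (hm : 1 ≤ m) (hF : Fintype.card F = 2 ^ (2 * m + 1))
    {Γ : Type u} [Group Γ] (N : Subgroup Γ) (hN : N.Normal) (e : N ≃* Lie.Sz F (2 ^ (m + 1)))
    (hc : Subgroup.centralizer (N : Set Γ) = ⊥) : N.index ∣ 2 * m + 1 := by
  have h1 := H740.FiveBase.index_dvd_out N hN hc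
  rw [H55.OutGen.card_out_congr e, S2126.result hm hF] at h1
  exact h1

/-- A nonprincipal irreducible character of a non-abelian simple group is not linear. -/
theorem deg_ne_one {S : Type u} [Group S] [Finite S] [IsSimpleGroup S] (hna : ¬ IsMulCommutative S)
    {χ : IrrCharacter S} (h : χ ≠ one S) : charDegree (χ : S → ℂ) ≠ 1 := by
  have := Fintype.ofFinite S
  intro h1
  apply h
  have h2 : (χ : S → ℂ) 1 = 1 := by rw [(deg_spec χ.2).1, h1, Nat.cast_one]
  have h3 := Cfsg.Agent.H595.AvgTwo.eq_one_of_irr_degree_one (K := S) ?_ χ.2 h2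
  · exact Subtype.ext h3
  · intro f
    have hk : f.ker = ⊤ := by
      rcases (MonoidHom.normal_ker f).eq_bot_or_eq_top with h4 | h4
      · exfalso
        apply hna
        have hinj : Function.Injective f := (MonoidHom.ker_eq_bot_iff f).1 h4
        exact ⟨⟨fun a b => hinj (by rw [map_mul, map_mul, mul_comm])⟩⟩
      · exact h4
    ext x
    have h5 : x ∈ f.ker := hk ▸ Subgroup.mem_top x
    rw [MonoidHom.mem_ker.1 h5]
    rfl

/-- `OutHit {7, 13}` for `Sz(8)`. -/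
theorem outHit8 {F : Type w} [Field F] [Fintype F] (hF : Fintype.card F = 2 ^ (2 * 1 + 1)) {S : Type v} [Group S]
    [Finite S] [IsSimpleGroup S] (hna : ¬ IsMulCommutative S) (e : S ≃* Lie.Sz F (2 ^ (1 + 1))) :
    OutHit.{u, v} {7, 13} S := by
  intro Γ _ _ N hN hNS hc t ht htN hts
  obtain ⟨f⟩ := hNS
  have hcard : Nat.card N = Nat.card S := Nat.card_congr f.toEquiv
  have hidx := index_dvd (m := 1) le_rfl hF N hN (f.trans e) hc
  have ht3 : t = 3 := by
    have h1 : t ∣ 3 := htN.trans hidx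
    exact (Nat.prime_dvd_prime_iff_eq ht Nat.prime_three).1 h1
  subst ht3
  have hidx3 : N.index = 3 := Nat.dvd_antisymm hidx htN
  obtain ⟨χ, g, hg⟩ := exists_moved N hc ht htN (by rwa [hcard])
  obtain ⟨d, hd, hdvd⟩ := exists_degree N ht hidx3 χ hg
  have hsN : IsSimpleGroup N := f.isSimpleGroup
  have hnaN : ¬ IsMulCommutative N := by
    intro h
    apply hna
    exact ⟨⟨fun a b => f.symm.injective (by rw [map_mul, map_mul]; exact h.is_comm.comm _ _)⟩⟩
  -- the degree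
  have hdeg := (H678.SuzGraph.mem_charDegrees (m := 1) le_rfl hF (S := N) ⟨f.trans e⟩ 1 7 13 5 rfl rfl rfl rfl
    (charDegree (χ : N → ℂ))).1 ⟨χ, rfl⟩
  have h1 : charDegree (χ : N → ℂ) ≠ 1 := by
    apply deg_ne_one hnaN
    rintro rfl
    apply hg
    intro n
    rw [coe_one]
    rfl
  have h64 : charDegree (χ : N → ℂ) ≠ 64 := by
    intro h64
    apply hg
    obtain ⟨T, A, B, D⟩ := exists_tori (F := F) (m := 1) le_rfl hF
    obtain ⟨i⟩ := Cfsg.Agent.OddCyclic.ClaimC.SzIso.iso (F := F) (m := 1) le_rfl hF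
    let e' : Sz F 1 ≃* N := i.trans (f.trans e).symm
    let c : N ≃* N := MulAut.conjNormal g
    have hχ1 : (χ : N → ℂ) 1 = 64 := by rw [(deg_spec χ.2).1, h64]; norm_num
    let χ1 : IrrCharacter (Sz F 1) := ⟨(χ : N → ℂ) ∘ e', isIrr_comp e'.toMonoidHom e'.surjective χ.2⟩
    let χ2 : IrrCharacter (Sz F 1) := ⟨(χ : N → ℂ) ∘ (e'.trans c),
      isIrr_comp (e'.trans c).toMonoidHom (e'.trans c).surjective χ.2⟩
    have d1 : charDegree (χ1 : Sz F 1 → ℂ) = 64 := by
      have h2 : (χ1 : Sz F 1 → ℂ) 1 = 64 := by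
        show (χ : N → ℂ) (e' 1) = 64
        rw [map_one, hχ1]
      rw [(deg_spec χ1.2).1] at h2
      exact_mod_cast h2
    have d2 : charDegree (χ2 : Sz F 1 → ℂ) = 64 := by
      have h2 : (χ2 : Sz F 1 → ℂ) 1 = 64 := by
        show (χ : N → ℂ) ((e'.trans c) 1) = 64
        rw [map_one, hχ1]
      rw [(deg_spec χ2.2).1] at h2
      exact_mod_cast h2
    have h3 : χ1 = χ2 := unique64 D.ccT (by have := D.kT; omega) D.lT d1 d2
    intro n
    have h4 := congrFun (congrArg Subtype.val h3) (e'.symm n)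
    have h5 : (χ1 : Sz F 1 → ℂ) (e'.symm n) = (χ : N → ℂ) n := by
      show (χ : N → ℂ) (e' (e'.symm n)) = _
      rw [e'.apply_symm_apply]
    have h6 : (χ2 : Sz F 1 → ℂ) (e'.symm n) =
        (χ : N → ℂ) ⟨g * n * g⁻¹, hN.conj_mem (n : Γ) n.2 g⟩ := by
      show (χ : N → ℂ) (c (e' (e'.symm n))) = _
      rw [e'.apply_symm_apply]
      rfl
    rw [← h6, ← h5]
    exact h4.symm
  rcases hdeg with h | h | h | h | h | h
  · exact absurd h h1
  · exact absurd h h64
  · exact ⟨13, Or.inr rfl, d, hd, (Nat.mul_dvd_mul_left 3 (by rw [h]; norm_num)).trans hdvd⟩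
  · exact ⟨7, Or.inl rfl, d, hd, (Nat.mul_dvd_mul_left 3 (by rw [h]; norm_num)).trans hdvd⟩
  · exact ⟨7, Or.inl rfl, d, hd, (Nat.mul_dvd_mul_left 3 (by rw [h]; norm_num)).trans hdvd⟩
  · exact ⟨7, Or.inl rfl, d, hd, (Nat.mul_dvd_mul_left 3 (by rw [h]; norm_num)).trans hdvd⟩

/-- `OutHit` for `Sz(32)` is vacuous. -/
theorem outHit32 {F : Type w} [Field F] [Fintype F] (hF : Fintype.card F = 2 ^ (2 * 2 + 1)) {S : Type v} [Group S]
    [Finite S] (e : S ≃* Lie.Sz F (2 ^ (2 + 1))) (h5 : 5 ∣ Nat.card S) (A : Set ℕ) : OutHit.{u, v} A S := by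
  intro Γ _ _ N hN hNS hc t ht htN hts
  exfalso
  obtain ⟨f⟩ := hNS
  have hidx := index_dvd (m := 2) (by norm_num) hF N hN (f.trans e) hc
  have h1 : t ∣ 5 := htN.trans hidx
  have h2 := (Nat.prime_dvd_prime_iff_eq ht Nat.prime_five).1 h1
  rw [h2] at hts
  exact hts h5

/-- **The Suzuki groups with exactly four prime divisors.** -/
theorem paw_sz {S : Type v} [Group S] [Finite S] [IsSimpleGroup S] (hna : ¬ IsMulCommutative S) {F : Type w} [Field F]
    [Fintype F] {m : ℕ} (hm : 1 ≤ m) (hF : Fintype.card F = 2 ^ (2 * m + 1)) (e : S ≃* Lie.Sz F (2 ^ (m + 1)))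
    (h4 : (Nat.card S).primeFactors.card = 4) : Paw.{u, v} S := by
  obtain ⟨i⟩ := Cfsg.Agent.OddCyclic.ClaimC.SzIso.iso (F := F) (m := m) hm hF
  let e' : Sz F m ≃* S := i.trans e.symm
  have hcard : Nat.card S = (2 ^ (2 * m + 1)) ^ 2 * ((2 ^ (2 * m + 1)) ^ 2 + 1) * (2 ^ (2 * m + 1) - 1) := by
    rw [← Nat.card_congr e'.toEquiv, S0324.result hm hF]
  have hm2 := m_le_two hm rfl rfl hcard h4
  have hadj := (H678.SuzGraph.main hm hF rfl (S := S) ⟨e⟩).2
  have hsimp : IsSimpleGroup (Sz F m) := e'.isSimpleGroup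
  obtain ⟨T, A, B, D⟩ := exists_tori (F := F) hm hF
  obtain rfl | rfl : m = 1 ∨ m = 2 := by omega
  · refine ⟨7, 13, 5, 2, by norm_num, by norm_num, by norm_num, ?_, ?_, ?_, ?_, hit_congr e' (hit8 D),
      outHit8 hF hna e⟩
    · exact (hadj _ _).2 ⟨by norm_num, by norm_num, by norm_num, Or.inl ⟨by norm_num, by norm_num⟩⟩
    · exact (hadj _ _).2 ⟨by norm_num, by norm_num, by norm_num, Or.inl ⟨by norm_num, by norm_num⟩⟩
    · exact (hadj _ _).2 ⟨by norm_num, by norm_num, by norm_num, Or.inl ⟨by norm_num, by norm_num⟩⟩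
    · exact (hadj _ _).2 ⟨by norm_num, by norm_num, by norm_num, Or.inr (Or.inr ⟨rfl, by norm_num⟩)⟩
  · refine ⟨31, 41, 5, 2, by norm_num, by norm_num, by norm_num, ?_, ?_, ?_, ?_, hit_congr e' (hit32 D),
      outHit32 hF e ?_ _⟩
    · exact (hadj _ _).2 ⟨by norm_num, by norm_num, by norm_num, Or.inl ⟨by norm_num, by norm_num⟩⟩
    · exact (hadj _ _).2 ⟨by norm_num, by norm_num, by norm_num, Or.inl ⟨by norm_num, by norm_num⟩⟩
    · exact (hadj _ _).2 ⟨by norm_num, by norm_num, by norm_num, Or.inl ⟨by norm_num, by norm_num⟩⟩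
    · exact (hadj _ _).2 ⟨by norm_num, by norm_num, by norm_num, Or.inr (Or.inr ⟨rfl, by norm_num⟩)⟩
    · rw [hcard]
      norm_num

end Cfsg.Agent.H404.SzPaw
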