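import Cfsg.Agent.H525.L2.Degrees
import Cfsg.Agent.S0848
import Cfsg.Agent.Characters.CCCounting

/-!
# Counting the irreducible characters over a linear character of a central kernel

`π : Q → S` surjective with central kernel, `l` a linear character of the kernel. Second orthogonality: the sum of
`|β(g)|²` over the irreducible characters `β` over `l` is `|C_S(π g)|` if the preimage of `C_S(π g)` centralizes `g`.
-/

set_option autoImplicit false
set_option linter.unusedSectionVars false

namespace Cfsg.Agent.H404.SzPaw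

open Cfsg
open scoped ComplexConjugate
open Cfsg.Agent.Characters.Core
open Cfsg.Agent.H595.Count Cfsg.Agent.H595.Central
open Cfsg.Agent.H525.L2

universe u v

variable {Q : Type u} [Group Q] [Finite Q] {S : Type v} [Group S] {π : Q →* S} (l : π.ker →* ℂˣ)

open Classical in
theorem sum_central {χ : Q → ℂ} (hc : π.ker ≤ Subgroup.center Q) (hχ : IsIrrCharacter Q χ) [Fintype π.ker] (g : Q) :
    ∑ z : π.ker, conj (l z : ℂ) * (χ (g * z) * conj (χ g)) =
      if Over π l χ then (Nat.card π.ker : ℂ) * (χ g * conj (χ g)) else 0 := by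
  obtain ⟨c, hc', -⟩ := Cfsg.Agent.CharactersDeep.Extraspecial.exists_central_hom hχ
  let c' : π.ker →* ℂˣ := c.comp (Subgroup.inclusion hc)
  have hcc : ∀ (x : Q) (z : π.ker), χ (x * z) = χ x * c' z := fun x z =>
    hc' x (Subgroup.inclusion hc z)
  have hcard : (Nat.card π.ker : ℂ) ≠ 0 := Nat.cast_ne_zero.2 Nat.card_pos.ne'
  have h1 : ∑ z : π.ker, conj (l z : ℂ) * (χ (g * z) * conj (χ g)) =
      (Nat.card π.ker : ℂ) * (χ g * conj (χ g)) *
        classInner (homIrr c' : π.ker → ℂ) (homIrr l : π.ker → ℂ) := by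
    rw [classInner_def, mul_comm (Nat.card π.ker : ℂ), mul_assoc, ← mul_assoc (Nat.card π.ker : ℂ),
      mul_inv_cancel₀ hcard, one_mul, Finset.mul_sum]
    refine Finset.sum_congr rfl fun z _ => ?_
    rw [hcc, homIrr_apply, homIrr_apply]
    ring
  rw [h1]
  split_ifs with ho
  · have h2 : (homIrr c' : π.ker → ℂ) = (homIrr l : π.ker → ℂ) := by
      funext z
      have h3 := hcc 1 z
      rw [ho 1 z] at h3
      exact (mul_left_cancel₀ (isIrr_apply_one_ne_zero hχ) h3).symm
    rw [h2, classInner_irr_self (homIrr l).2, mul_one]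
  · rw [classInner_irr_ne (homIrr c').2 (homIrr l).2, mul_zero]
    intro h2
    apply ho
    intro a z
    rw [hcc, ← homIrr_apply c', h2, homIrr_apply]

theorem card_ker_mul (hs : Function.Surjective π) : Nat.card π.ker * Nat.card S = Nat.card Q := by
  rw [← index_eq hs, Subgroup.card_mul_index]

theorem card_comap (hs : Function.Surjective π) (H : Subgroup S) :
    Nat.card (H.comap π) = Nat.card π.ker * Nat.card H := by
  have : Finite S := Finite.of_surjective π hs
  have h1 := Subgroup.card_mul_index (H.comap π)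
  rw [Subgroup.index_comap_of_surjective H hs, ← card_ker_mul hs, ← Subgroup.card_mul_index H, ← mul_assoc] at h1
  exact Nat.eq_of_mul_eq_mul_right (Nat.pos_of_ne_zero Subgroup.index_ne_zero_of_finite) h1

/-- Second orthogonality over `l`. -/
theorem sum_mul_conj [Fintype (IrrCharacter Q)] (hs : Function.Surjective π) (hc : π.ker ≤ Subgroup.center Q) {g : Q}
    (hg : ∀ y : Q, π y * π g = π g * π y → y * g = g * y) :
    ∑ β ∈ Ov l, (β : Q → ℂ) g * conj ((β : Q → ℂ) g) =
      (Nat.card (Subgroup.centralizer ({π g} : Set S)) : ℂ) := by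
  classical
  have := Fintype.ofFinite π.ker
  have hcard : (Nat.card π.ker : ℂ) ≠ 0 := Nat.cast_ne_zero.2 Nat.card_pos.ne'
  have h1 : ∑ β : IrrCharacter Q, ∑ z : π.ker, conj (l z : ℂ) * ((β : Q → ℂ) (g * z) * conj ((β : Q → ℂ) g)) =
      (Nat.card π.ker : ℂ) * ∑ β ∈ Ov l, (β : Q → ℂ) g * conj ((β : Q → ℂ) g) := by
    rw [Finset.sum_congr rfl fun β _ => sum_central l hc β.2 g, ← Finset.sum_filter, ← Finset.mul_sum]
    congr 1
  have h2 : ∑ β : IrrCharacter Q, ∑ z : π.ker, conj (l z : ℂ) * ((β : Q → ℂ) (g * z) * conj ((β : Q → ℂ) g)) =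
      (Nat.card {a : Q // a * g * a⁻¹ = g} : ℂ) := by
    rw [Finset.sum_comm, Finset.sum_congr rfl fun z _ => (Finset.mul_sum _ _ _).symm,
      Finset.sum_congr rfl fun z _ => by rw [← Cfsg.Agent.S0848.column_orth],
      Finset.sum_eq_single (1 : π.ker)]
    · rw [map_one, Units.val_one, map_one, one_mul, Subgroup.coe_one, mul_one]
    · intro z _ hz
      have h3 : IsEmpty {a : Q // a * (g * z) * a⁻¹ = g} := by
        constructor
        rintro ⟨a, ha⟩
        have h4 := congrArg π ha
        rw [map_mul, map_mul, map_mul, map_inv, MonoidHom.mem_ker.1 z.2, mul_one,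
          mul_inv_eq_iff_eq_mul] at h4
        have h5 := hg a h4
        rw [← mul_assoc, h5, mul_assoc, mul_assoc, ← Subgroup.mem_center_iff.1 (hc z.2) a⁻¹,
          mul_inv_cancel_left] at ha
        exact hz (Subtype.ext (mul_eq_left.1 ha))
      rw [Nat.card_of_isEmpty, Nat.cast_zero, mul_zero]
    · intro h
      exact absurd (Finset.mem_univ _) h
  have h3 : Nat.card {a : Q // a * g * a⁻¹ = g} =
      Nat.card π.ker * Nat.card (Subgroup.centralizer ({π g} : Set S)) := by
    rw [← card_comap hs]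
    refine Nat.card_congr (Equiv.subtypeEquivRight fun a => ?_)
    rw [mul_inv_eq_iff_eq_mul, Subgroup.mem_comap, Subgroup.mem_centralizer_singleton_iff]
    constructor
    · intro h
      rw [← map_mul, ← map_mul, h]
    · exact hg a
  rw [h1, h3, Nat.cast_mul] at h2
  exact mul_left_cancel₀ hcard h2

/-- The sum of `|β(g)|²` over the irreducible characters over `l`. -/
noncomputable def Fn [Fintype (IrrCharacter Q)] (g : Q) : ℝ := ∑ β ∈ Ov l, Complex.normSq ((β : Q → ℂ) g)

theorem Fn_nonneg [Fintype (IrrCharacter Q)] (g : Q) : 0 ≤ Fn l g :=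
  Finset.sum_nonneg fun _ _ => Complex.normSq_nonneg _

theorem Fn_eq [Fintype (IrrCharacter Q)] (hs : Function.Surjective π) (hc : π.ker ≤ Subgroup.center Q) {g : Q}
    (hg : ∀ y : Q, π y * π g = π g * π y → y * g = g * y) :
    Fn l g = Nat.card (Subgroup.centralizer ({π g} : Set S)) := by
  have h1 := sum_mul_conj l hs hc hg
  simp only [Complex.mul_conj] at h1
  unfold Fn
  exact_mod_cast h1

theorem Fn_mul_ker [Fintype (IrrCharacter Q)] (g : Q) (z : π.ker) : Fn l (g * z) = Fn l g := by
  unfold Fn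
  refine Finset.sum_congr rfl fun β hβ => ?_
  rw [(mem_Ov l).1 hβ g z, Complex.normSq_mul]
  have h1 : Complex.normSq (l z : ℂ) = 1 := by
    have h2 : (l z : ℂ) ^ Nat.card π.ker = 1 := by
      rw [← Units.val_pow_eq_pow_val, ← map_pow, pow_card_eq_one', map_one, Units.val_one]
    have h3 := Complex.norm_eq_one_of_pow_eq_one h2 Nat.card_pos.ne'
    rw [Complex.normSq_eq_norm_sq, h3, one_pow]
  rw [h1, mul_one]

theorem Fn_congr [Fintype (IrrCharacter Q)] {g h : Q} (hgh : π g = π h) : Fn l g = Fn l h := by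
  have h1 : h⁻¹ * g ∈ π.ker := by
    rw [MonoidHom.mem_ker, map_mul, map_inv, hgh, inv_mul_cancel]
  have h2 := Fn_mul_ker l h ⟨_, h1⟩
  rwa [mul_inv_cancel_left] at h2

theorem Fn_conj [Fintype (IrrCharacter Q)] (g h : Q) : Fn l (h * g * h⁻¹) = Fn l g := by
  unfold Fn
  refine Finset.sum_congr rfl fun β _ => ?_
  rw [isIrr_isClassFunction β.2 g h]

theorem Fn_one [Fintype (IrrCharacter Q)] (hs : Function.Surjective π) (hc : π.ker ≤ Subgroup.center Q) :
    Fn l 1 = Nat.card S := by
  rw [← sum_sq l hs hc]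
  unfold Fn
  push_cast
  refine Finset.sum_congr rfl fun β _ => ?_
  rw [(deg_spec β.2).1, Complex.normSq_natCast]
  ring

end Cfsg.Agent.H404.SzPaw
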