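import Cfsg.Agent.H404.SzPaw.Tori
import Cfsg.Agent.H740.FiveSz
import Cfsg.Agent.H395.Jordan
import Cfsg.Agent.Characters.GaloisIrr

/-!
# Outer primes for `Sz(8)`

An automorphism of prime order prime to `|N|` moves some irreducible character of `N`. For `Sz(8)` its degree is
divisible by `7` or `13` (there is only one irreducible character of degree `64`).
-/

set_option autoImplicit false
set_option linter.unusedSectionVars false

namespace Cfsg.Agent.H404.SzPaw

open Cfsg
open scoped ComplexConjugate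
open Cfsg.Agent.Characters Cfsg.Agent.Characters.Core Cfsg.Agent.Characters.CCBasic
  Cfsg.Agent.Characters.CCEstimates Cfsg.Agent.Characters.CCValues Cfsg.Agent.H678 Cfsg.Agent.H678.CCExact
open Cfsg.Agent.H595.Count Cfsg.Agent.H595.Central
open Cfsg.Agent.H525.L2

universe u v

/-- An element of prime order `t`, `t` prime to `|N|`, which does not centralize `N` moves some irreducible
character of `N`. -/
theorem exists_moved {Γ : Type u} [Group Γ] [Finite Γ] (N : Subgroup Γ) [hN : N.Normal]
    (hc : Subgroup.centralizer (N : Set Γ) = ⊥) {t : ℕ} (ht : t.Prime) (hti : t ∣ N.index)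
    (htn : ¬ t ∣ Nat.card N) :
    ∃ (χ : IrrCharacter N) (g : Γ), ¬ ∀ n : N,
      (χ : N → ℂ) ⟨g * n * g⁻¹, hN.conj_mem (n : Γ) n.2 g⟩ = (χ : N → ℂ) n := by
  classical
  by_contra hcon
  push Not at hcon
  have : Fact t.Prime := ⟨ht⟩
  obtain ⟨g, hg⟩ := exists_prime_orderOf_dvd_card' (G := Γ) t (hti.trans N.index_dvd_card)
  let f : N → N := fun n => ⟨g * n * g⁻¹, hN.conj_mem (n : Γ) n.2 g⟩
  have hf : ∀ n, IsConj (f n) n := fun n =>
    Characters.GaloisIrr.isConj_of_forall_irr fun χ hχ => hcon ⟨χ, hχ⟩ g n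
  have hfinj : Function.Injective f := by
    intro a b h
    have h1 : g * (a : Γ) * g⁻¹ = g * b * g⁻¹ := congrArg Subtype.val h
    exact Subtype.ext (mul_left_cancel (mul_right_cancel h1))
  have hfpow : ∀ (k : ℕ) (n : N), ((f^[k] n : N) : Γ) = g ^ k * n * (g ^ k)⁻¹ := by
    intro k
    induction k with
    | zero => intro n; simp
    | succ k ih =>
      intro n
      rw [Function.iterate_succ_apply, ih, pow_succ]
      show g ^ k * (g * n * g⁻¹) * (g ^ k)⁻¹ = _
      group
  have hft : ∀ n, f^[t] n = n := by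
    intro n
    apply Subtype.ext
    rw [hfpow, ← hg, pow_orderOf_eq_one]
    simp
  let C : Subgroup N := (Subgroup.centralizer ({g} : Set Γ)).subgroupOf N
  have hC : C = ⊤ := by
    by_contra hne
    obtain ⟨x, hx⟩ := Cfsg.Agent.H395.Jordan.exists_not_conj_mem hne
    let K := {y : N // IsConj x y}
    have hKfin : Fintype K := Fintype.ofFinite K
    let σ0 : K → K := fun y => ⟨f y.1, y.2.trans (hf y.1).symm⟩
    have hσ0 : Function.Injective σ0 := by
      intro a b h
      exact Subtype.ext (hfinj (congrArg Subtype.val h))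
    let σ : Equiv.Perm K := Equiv.ofBijective σ0 ⟨hσ0, Finite.surjective_of_injective hσ0⟩
    have hσ : ∀ (k : ℕ) (y : K), ((σ ^ k) y).1 = f^[k] y.1 := by
      intro k
      induction k with
      | zero => intro y; rfl
      | succ k ih =>
        intro y
        rw [pow_succ, Equiv.Perm.mul_apply, ih, Function.iterate_succ_apply]
        rfl
    have hcard : ¬ t ∣ Fintype.card K := by
      intro h
      apply htn
      refine h.trans ?_
      have e : K ≃ MulAction.orbit (ConjAct N) x := Equiv.subtypeEquivRight fun y => by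
        rw [ConjAct.mem_orbit_conjAct, isConj_comm]
      rw [← Nat.card_eq_fintype_card, Nat.card_congr e,
        Nat.card_congr (MulAction.orbitEquivQuotientStabilizer (ConjAct N) x)]
      exact (Subgroup.card_quotient_dvd_card _).trans (dvd_of_eq (Nat.card_congr ConjAct.ofConjAct.toEquiv))
    obtain ⟨y, hy⟩ := Equiv.Perm.exists_fixed_point_of_prime (p := t) (n := 1) hcard (σ := σ) (by
      rw [pow_one]
      ext y
      rw [hσ, hft]
      rfl)
    obtain ⟨n, hn⟩ := isConj_iff.1 y.2
    apply hx n⁻¹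
    have h1 : n⁻¹⁻¹ * x * n⁻¹ = y.1 := by rw [inv_inv]; exact hn
    rw [h1]
    show ((y.1 : N) : Γ) ∈ Subgroup.centralizer ({g} : Set Γ)
    rw [Subgroup.mem_centralizer_singleton_iff]
    have h2 : f y.1 = y.1 := congrArg Subtype.val hy
    have h3 : g * (y.1 : Γ) * g⁻¹ = y.1 := congrArg Subtype.val h2
    exact (mul_inv_eq_iff_eq_mul.1 h3).symm
  have hgc : g ∈ Subgroup.centralizer (N : Set Γ) := by
    rw [Subgroup.mem_centralizer_iff]
    intro n hn
    have h1 : (⟨n, hn⟩ : N) ∈ C := hC ▸ Subgroup.mem_top _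
    have h2 : (n : Γ) ∈ Subgroup.centralizer ({g} : Set Γ) := h1
    exact Subgroup.mem_centralizer_singleton_iff.1 h2
  rw [hc, Subgroup.mem_bot] at hgc
  rw [hgc, orderOf_one] at hg
  exact ht.one_lt.ne hg

/-- `Sz(8)` has only one irreducible character of degree `64`. -/
theorem unique64 {S : Type u} [Group S] [Finite S] {T : Subgroup S} (hcc : IsCC T) (hT : Nat.card T = 7)
    (hl : len T = 2) {χ ψ : IrrCharacter S} (h1 : charDegree (χ : S → ℂ) = 64)
    (h2 : charDegree (ψ : S → ℂ) = 64) : χ = ψ := by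
  classical
  have := Fintype.ofFinite S
  have := finite_irr (G := S)
  have := Fintype.ofFinite (IrrCharacter S)
  obtain ⟨D⟩ := nonempty_ccData hcc hl (s := 3) (by rw [hT]) (by norm_num)
  by_contra hne
  have h3 : D.f (one S) = 1 :=
    (SuzChar.const D hcc.ne_bot (ψ := one S) (z := 1) (fun a _ _ => by rw [coe_one]; simp)).2
  have hsq := D.sq
  have hc0 : (D.c : ℤ) ^ 2 * 3 - 2 * D.ε * D.c ≤ 1 := by
    have h4 : (1 : ℤ) ≤ ∑ ψ : IrrCharacter S, D.f ψ ^ 2 := by
      calc (1 : ℤ) = D.f (one S) ^ 2 := by rw [h3]; norm_num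
        _ ≤ _ := Finset.single_le_sum (f := fun ψ : IrrCharacter S => D.f ψ ^ 2) (fun _ _ => sq_nonneg _)
          (Finset.mem_univ _)
    push_cast at hsq
    linarith
  have hc1 : D.c = 0 ∨ D.c = D.ε := by
    rcases D.hε with h | h
    · rw [h] at hc0 ⊢
      have h4 : D.c ≤ 1 := by nlinarith
      have h5 : -1 < D.c := by nlinarith
      omega
    · rw [h] at hc0 ⊢
      have h4 : D.c < 1 := by nlinarith
      have h5 : -1 ≤ D.c := by nlinarith
      omega
  have hR : ∀ φ : IrrCharacter S, charDegree (φ : S → ℂ) = 64 → φ ∉ D.R ∧ 1 ≤ D.f φ ^ 2 := by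
    intro φ hφ
    have h4 : φ ∉ D.R := by
      intro h
      have h5 := D.ddvd
      rw [← D.deg φ h, hφ, hT] at h5
      push_cast at h5
      rcases D.hε with h | h <;> rcases hc1 with h6 | h6 <;> rw [h6, h] at h5 <;> norm_num at h5
    refine ⟨h4, ?_⟩
    have h5 := D.dvd φ h4
    rw [hφ, hT] at h5
    have h6 : D.f φ ≠ 0 := by
      intro h
      rw [h] at h5
      norm_num at h5
    have h7 := sq_nonneg (D.f φ)
    have h8 : D.f φ ^ 2 ≠ 0 := pow_ne_zero 2 h6
    omega
  have hone : ∀ φ : IrrCharacter S, charDegree (φ : S → ℂ) = 64 → one S ≠ φ := by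
    intro φ hφ h
    rw [← h, SuzChar.deg_one] at hφ
    norm_num at hφ
  have h5 : (3 : ℤ) ≤ ∑ ψ : IrrCharacter S, D.f ψ ^ 2 := by
    calc (3 : ℤ) ≤ D.f (one S) ^ 2 + (D.f χ ^ 2 + D.f ψ ^ 2) := by
          have h6 := (hR χ h1).2
          have h7 := (hR ψ h2).2
          rw [h3]
          linarith
      _ = ∑ ψ ∈ insert (one S) (insert χ {ψ}), D.f ψ ^ 2 := by
          rw [Finset.sum_insert (by
            rw [Finset.mem_insert, Finset.mem_singleton]
            rintro (h | h)
            · exact hone χ h1 h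
            · exact hone ψ h2 h), Finset.sum_insert (by rwa [Finset.mem_singleton]), Finset.sum_singleton]
      _ ≤ _ := Finset.sum_le_sum_of_subset_of_nonneg (Finset.subset_univ _) fun _ _ _ => sq_nonneg _
  push_cast at hsq
  rcases D.hε with h | h <;> rcases hc1 with h6 | h6 <;> rw [h6, h] at hsq <;> linarith

end Cfsg.Agent.H404.SzPaw
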