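import Cfsg.Agent.H404.SzPaw.Orth

/-!
# The number of irreducible characters over `l`, from above

If the cyclic CC-subgroup `T` of `S` has order `n` and no degree over `l` is divisible by `n`, there are at most `n`
irreducible characters over `l`.
-/

set_option autoImplicit false
set_option linter.unusedSectionVars false

namespace Cfsg.Agent.H404.SzPaw

open Cfsg
open scoped ComplexConjugate
open Cfsg.Agent.Characters.Core Cfsg.Agent.Characters.CCBasic
open Cfsg.Agent.H595.Count Cfsg.Agent.H595.Central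
open Cfsg.Agent.H525.L2

universe u v

theorem ineq {ι : Type*} (M : Finset ι) (a : ι → ℕ) {p d : ℕ} (hp : 0 < p) (hM : M.card ≤ p)
    (hd : ∑ i ∈ M, a i = d) (hnd : ¬ p ∣ d) : d ^ 2 + p ≤ p * ∑ i ∈ M, a i ^ 2 + 1 := by
  obtain ⟨t, ht⟩ : ∃ t : ℤ, t = ((d / p : ℕ) : ℤ) := ⟨_, rfl⟩
  obtain ⟨r, hr⟩ : ∃ r : ℤ, r = ((d % p : ℕ) : ℤ) := ⟨_, rfl⟩
  have ht0 : 0 ≤ t := by rw [ht]; positivity
  have hr1 : 1 ≤ r := by
    have : d % p ≠ 0 := fun h => hnd (Nat.dvd_of_mod_eq_zero h)
    rw [hr]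
    omega
  have hr2 : r ≤ p - 1 := by
    have := Nat.mod_lt d hp
    rw [hr]
    omega
  have hD : (d : ℤ) = p * t + r := by
    rw [ht, hr]
    exact_mod_cast (Nat.div_add_mod d p).symm
  have h1 : ∑ i ∈ M, ((a i : ℤ) - t) ≤ ∑ i ∈ M, ((a i : ℤ) - t) ^ 2 :=
    Finset.sum_le_sum fun i _ => Int.le_self_sq _
  have h2 : ∑ i ∈ M, ((a i : ℤ) - t) = d - M.card * t := by
    rw [Finset.sum_sub_distrib, Finset.sum_const, nsmul_eq_mul, ← hd]
    push_cast
    rfl
  have h3 : ∑ i ∈ M, ((a i : ℤ) - t) ^ 2 = ∑ i ∈ M, (a i : ℤ) ^ 2 - 2 * t * d + M.card * t ^ 2 := by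
    have e : ∀ i ∈ M, ((a i : ℤ) - t) ^ 2 = (a i : ℤ) ^ 2 - 2 * t * a i + t ^ 2 := fun i _ => by ring
    rw [Finset.sum_congr rfl e, Finset.sum_add_distrib, Finset.sum_sub_distrib, ← Finset.mul_sum,
      Finset.sum_const, nsmul_eq_mul, ← hd]
    push_cast
    rfl
  rw [h2, h3] at h1
  have hMz : (M.card : ℤ) ≤ p := by exact_mod_cast hM
  have h4 : (M.card : ℤ) * (t + t ^ 2) ≤ p * (t + t ^ 2) := by
    apply mul_le_mul_of_nonneg_right hMz
    positivity
  have h5 : (d : ℤ) * (1 + 2 * t) - p * (t + t ^ 2) ≤ ∑ i ∈ M, (a i : ℤ) ^ 2 := by nlinarith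
  have hpz : (0 : ℤ) ≤ p := by positivity
  have h6 := mul_le_mul_of_nonneg_left h5 hpz
  have h7 : (0 : ℤ) ≤ (r - 1) * (p - 1 - r) := mul_nonneg (by linarith) (by linarith)
  have h8 : (d : ℤ) ^ 2 + p ≤ p * ∑ i ∈ M, (a i : ℤ) ^ 2 + 1 := by
    rw [hD] at h6 ⊢
    nlinarith
  exact_mod_cast h8

variable {Q : Type u} [Group Q] [Finite Q] {S : Type v} [Group S] {π : Q →* S} (l : π.ker →* ℂˣ)

/-- The preimage of a cyclic subgroup is abelian. -/
theorem comm_comap (hc : π.ker ≤ Subgroup.center Q) (T : Subgroup S) [hT : IsCyclic T] :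
    ∀ x ∈ T.comap π, ∀ y ∈ T.comap π, x * y = y * x := by
  intro x hx y hy
  let f : T.comap π →* T := (π.comp (T.comap π).subtype).codRestrict T (fun v => v.2)
  have hf : f.ker ≤ Subgroup.center (T.comap π) := by
    intro z hz
    have h1 : (z : Q) ∈ π.ker := congrArg Subtype.val (MonoidHom.mem_ker.1 hz)
    rw [Subgroup.mem_center_iff]
    intro g
    exact Subtype.ext (Subgroup.mem_center_iff.1 (hc h1) g)
  have h1 := MonoidHom.isMulCommutative_of_isCyclic_of_ker_le_center f hf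
  have h2 := h1.is_comm.comm (⟨x, hx⟩ : T.comap π) ⟨y, hy⟩
  exact congrArg Subtype.val h2

theorem norm_ge (hs : Function.Surjective π) (hc : π.ker ≤ Subgroup.center Q) {T : Subgroup S} [IsCyclic T]
    {V : Subgroup Q} (hV : V = T.comap π) [Fintype V] {β : IrrCharacter Q} (hβ : Over π l (β : Q → ℂ))
    (hnd : ¬ Nat.card T ∣ charDegree (β : Q → ℂ)) :
    (Nat.card π.ker : ℝ) * ((charDegree (β : Q → ℂ) : ℝ) ^ 2 + (Nat.card T - 1)) ≤
      ∑ v : V, Complex.normSq ((β : Q → ℂ) v) := by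
  classical
  have hfS : Finite S := Finite.of_surjective π hs
  have hcomm := comm_comap hc T
  rw [← hV] at hcomm
  have hVm : ∀ v : V, π v ∈ T := fun v => hV.le v.2
  have := finite_irr (G := V)
  have := Fintype.ofFinite (IrrCharacter V)
  let f : V → ℂ := (β : Q → ℂ) ∘ V.subtype
  have hf : IsCharacter V f := isCharacter_comp V.subtype (isIrr_isCharacter β.2)
  obtain ⟨a, ha⟩ := exists_nat_comb hf
  have hcoef : ∀ μ : IrrCharacter V, classInner f (μ : V → ℂ) = a μ := by
    intro μ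
    conv_lhs => rw [ha]
    exact classInner_sum_nsmul_irr a μ
  let πV : V →* T := (π.comp V.subtype).codRestrict T hVm
  have hπs : Function.Surjective πV := by
    rintro ⟨t, ht⟩
    obtain ⟨x, rfl⟩ := hs t
    exact ⟨⟨x, by rw [hV]; exact ht⟩, rfl⟩
  have hmem : ∀ z : V, z ∈ πV.ker → (z : Q) ∈ π.ker := fun z hz => congrArg Subtype.val (MonoidHom.mem_ker.1 hz)
  let kf : πV.ker →* π.ker := (V.subtype.comp πV.ker.subtype).codRestrict π.ker (fun z => hmem z z.2)
  let lV : πV.ker →* ℂˣ := l.comp kf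
  have hone : ∀ μ : IrrCharacter V, (μ : V → ℂ) 1 = 1 := fun μ =>
    irr_apply_one_of_comm (fun a b => Subtype.ext (hcomm a a.2 b b.2)) μ.2
  -- the irreducible characters over `l`
  have hM : (Ov lV).card ≤ Nat.card T := by
    have hcV : πV.ker ≤ Subgroup.center V := by
      intro z hz
      rw [Subgroup.mem_center_iff]
      intro g
      exact Subtype.ext (hcomm g g.2 z z.2)
    rw [← sum_sq lV hπs hcV, Finset.card_eq_sum_ones]
    exact Finset.sum_le_sum fun μ _ => Nat.one_le_pow _ _ (deg_spec μ.2).2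
  have hker : ∀ z : π.ker, (z : Q) ∈ V := fun z => by
    rw [hV, Subgroup.mem_comap, MonoidHom.mem_ker.1 z.2]
    exact T.one_mem
  have hsupp : ∀ μ : IrrCharacter V, μ ∉ Ov lV → a μ = 0 := by
    intro μ hμ
    by_contra h0
    apply hμ
    rw [mem_Ov]
    obtain ⟨g, hg⟩ := exists_hom_of_comm (fun a b => Subtype.ext (hcomm a a.2 b b.2)) μ.2
    intro v z
    have h1 : classInner f (μ : V → ℂ) =
        (l (kf z) : ℂ) * conj (g z : ℂ) * classInner f (μ : V → ℂ) := by
      have e0 : ∑ v : V, f v * conj ((μ : V → ℂ) v) =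
          (l (kf z) : ℂ) * conj (g z : ℂ) * ∑ v : V, f v * conj ((μ : V → ℂ) v) := by
        rw [Finset.mul_sum]
        conv_lhs => rw [← Equiv.sum_comp (Equiv.mulRight (z : V))
          (fun v => f v * conj ((μ : V → ℂ) v))]
        refine Finset.sum_congr rfl fun v _ => ?_
        have e1 : f (v * z) = f v * l (kf z) := hβ v (kf z)
        show f (v * z) * conj ((μ : V → ℂ) (v * z)) = _
        rw [e1, hg]
        show f v * (l (kf z) : ℂ) * conj ((g (v * z) : ℂˣ) : ℂ) = _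
        rw [map_mul, Units.val_mul, map_mul]
        ring
      rw [classInner_def]
      conv_lhs => rw [e0]
      ring
    rw [hcoef] at h1
    have h2 : (l (kf z) : ℂ) * conj (g z : ℂ) = 1 := by
      have h3 : (a μ : ℂ) ≠ 0 := Nat.cast_ne_zero.2 h0
      exact (mul_right_cancel₀ h3 (by rw [one_mul]; exact h1)).symm
    have h4 : (g z : ℂ) * conj (g z : ℂ) = 1 := by
      have h5 : (g z : ℂ) ^ Nat.card V = 1 := by
        rw [← Units.val_pow_eq_pow_val, ← map_pow, pow_card_eq_one', map_one, Units.val_one]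
      rw [Complex.mul_conj, Complex.normSq_eq_norm_sq, Complex.norm_eq_one_of_pow_eq_one h5 Nat.card_pos.ne']
      norm_num
    have h6 : (l (kf z) : ℂ) = g z := by
      have h7 : conj (g z : ℂ) ≠ 0 := by
        intro h
        rw [h, mul_zero] at h4
        exact zero_ne_one h4
      exact mul_right_cancel₀ h7 (h2.trans h4.symm)
    show (μ : V → ℂ) (v * z) = (μ : V → ℂ) v * (l (kf z) : ℂ)
    rw [h6, hg]
    show ((g (v * z) : ℂˣ) : ℂ) = (g v : ℂ) * (g z : ℂ)
    rw [map_mul, Units.val_mul]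
  have hsumT : ∀ b : ℕ → ℕ, b 0 = 0 → ∑ μ, b (a μ) = ∑ μ ∈ Ov lV, b (a μ) := by
    intro b hb
    symm
    apply Finset.sum_subset (Finset.subset_univ _)
    intro μ _ hμ
    rw [hsupp μ hμ, hb]
  have hsum : ∑ μ ∈ Ov lV, a μ = charDegree (β : Q → ℂ) := by
    have h1 : f 1 = charDegree (β : Q → ℂ) := by
      show (β : Q → ℂ) ((1 : V) : Q) = _
      rw [Subgroup.coe_one, (deg_spec β.2).1]
    have h2 := congrFun ha 1
    rw [h1, Finset.sum_apply] at h2
    have h3 : ∀ μ : IrrCharacter V, (a μ • (μ : V → ℂ)) 1 = (a μ : ℂ) := by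
      intro μ
      rw [Pi.smul_apply, hone, nsmul_eq_mul, mul_one]
    rw [Finset.sum_congr rfl fun μ _ => h3 μ, ← Nat.cast_sum] at h2
    have h4 : ∑ μ, a μ = charDegree (β : Q → ℂ) := by exact_mod_cast h2.symm
    rw [← h4]
    exact (hsumT id rfl).symm
  have h5 := ineq (Ov lV) a (p := Nat.card T) Nat.card_pos hM hsum hnd
  -- the norm
  have hnorm : ∑ v : V, Complex.normSq ((β : Q → ℂ) v) = (Nat.card V : ℝ) * (∑ μ ∈ Ov lV, a μ ^ 2 : ℕ) := by
    have h6 : classInner f f = ((∑ μ ∈ Ov lV, a μ ^ 2 : ℕ) : ℂ) := by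
      have e1 : f = ∑ μ : IrrCharacter V, (a μ : ℂ) • (μ : V → ℂ) := by
        simp only [Nat.cast_smul_eq_nsmul]
        exact ha
      have e2 : classInner f f = ∑ μ : IrrCharacter V, (a μ : ℂ) * conj (a μ : ℂ) := by
        conv_lhs => rw [e1]
        exact classInner_sum_smul_sum_smul _ _
      rw [e2, ← hsumT (fun n => n ^ 2) rfl]
      push_cast
      refine Finset.sum_congr rfl fun μ _ => ?_
      rw [map_natCast, pow_two]
    rw [classInner_self_eq_ofReal] at h6
    have h7 : (Nat.card V : ℝ)⁻¹ * ∑ g : V, Complex.normSq (f g) = ((∑ μ ∈ Ov lV, a μ ^ 2 : ℕ) : ℝ) := by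
      exact_mod_cast h6
    have h8 : (Nat.card V : ℝ) ≠ 0 := Nat.cast_ne_zero.2 Nat.card_pos.ne'
    rw [← h7, mul_inv_cancel_left₀ h8]
    rfl
  have hcV : Nat.card V = Nat.card π.ker * Nat.card T := by rw [hV, card_comap hs]
  rw [hnorm, hcV, Nat.cast_mul, mul_assoc]
  apply mul_le_mul_of_nonneg_left _ (Nat.cast_nonneg _)
  have h9 : ((charDegree (β : Q → ℂ) ^ 2 + Nat.card T : ℕ) : ℝ) ≤
      ((Nat.card T * ∑ μ ∈ Ov lV, a μ ^ 2 + 1 : ℕ) : ℝ) := by exact_mod_cast h5
  push_cast at h9 ⊢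
  linarith

theorem sum_split {V : Type*} [Fintype V] (P : V → Prop) [DecidablePred P] (F : V → ℝ) {a b : ℝ}
    (h1 : ∀ v, P v → F v = a) (h2 : ∀ v, ¬ P v → F v = b) :
    ∑ v, F v = (Finset.univ.filter P).card * a + (Fintype.card V - (Finset.univ.filter P).card) * b := by
  rw [← Finset.sum_filter_add_sum_filter_not Finset.univ P,
    Finset.sum_congr rfl fun v hv => h1 v (Finset.mem_filter.1 hv).2,
    Finset.sum_congr rfl fun v hv => h2 v (Finset.mem_filter.1 hv).2, Finset.sum_const, Finset.sum_const,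
    nsmul_eq_mul, nsmul_eq_mul]
  have h3 := Finset.card_filter_add_card_filter_not (s := (Finset.univ : Finset V)) P
  rw [Finset.card_univ] at h3
  rw [← h3]
  push_cast
  ring

/-- At most `|T|` irreducible characters over `l`, if no degree is divisible by `|T|`. -/
theorem card_Ov_le [Fintype (IrrCharacter Q)] (hs : Function.Surjective π) (hc : π.ker ≤ Subgroup.center Q)
    {T : Subgroup S} [IsCyclic T] (hcc : IsCC T)
    (hnd : ∀ β ∈ Ov l, ¬ Nat.card T ∣ charDegree (β : Q → ℂ)) : (Ov l).card ≤ Nat.card T := by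
  classical
  have hfS : Finite S := Finite.of_surjective π hs
  have hcomm := comm_comap hc T
  have := Fintype.ofFinite (T.comap π)
  have hk0 : (0 : ℝ) < Nat.card π.ker := Nat.cast_pos.2 Nat.card_pos
  have h1 : (Nat.card π.ker : ℝ) * (Nat.card S + (Ov l).card * (Nat.card T - 1)) ≤
      ∑ v : T.comap π, Fn l (v : Q) := by
    have e1 : ∑ v : T.comap π, Fn l (v : Q) = ∑ β ∈ Ov l, ∑ v : T.comap π, Complex.normSq ((β : Q → ℂ) v) := by
      unfold Fn
      rw [Finset.sum_comm]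
    have e2 : (Nat.card π.ker : ℝ) * (Nat.card S + (Ov l).card * (Nat.card T - 1)) =
        ∑ β ∈ Ov l, (Nat.card π.ker : ℝ) * ((charDegree (β : Q → ℂ) : ℝ) ^ 2 + (Nat.card T - 1)) := by
      rw [← Finset.mul_sum, Finset.sum_add_distrib, Finset.sum_const, nsmul_eq_mul]
      congr 2
      rw [← sum_sq l hs hc]
      push_cast
      rfl
    rw [e1, e2]
    exact Finset.sum_le_sum fun β hβ => norm_ge l hs hc rfl ((mem_Ov l).1 hβ) (hnd β hβ)
  have h2 : ∑ v : T.comap π, Fn l (v : Q) = (Nat.card π.ker : ℝ) * Nat.card S +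
      ((Nat.card π.ker : ℝ) * Nat.card T - Nat.card π.ker) * Nat.card T := by
    rw [sum_split (fun v : T.comap π => π v = 1) (fun v => Fn l (v : Q)) (a := Nat.card S) (b := Nat.card T)]
    · have e3 : (Finset.univ.filter (fun v : T.comap π => π v = 1)).card = Nat.card π.ker := by
        rw [← Fintype.card_subtype, ← Nat.card_eq_fintype_card]
        exact Nat.card_congr
          { toFun := fun v => ⟨v.1.1, v.2⟩
            invFun := fun z => ⟨⟨z.1, by rw [Subgroup.mem_comap, MonoidHom.mem_ker.1 z.2]; exact T.one_mem⟩, z.2⟩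
            left_inv := fun _ => rfl
            right_inv := fun _ => rfl }
      rw [e3, ← Nat.card_eq_fintype_card, card_comap hs]
      push_cast
      ring
    · intro v hv
      rw [Fn_congr l (h := 1) (by rw [hv, map_one]), Fn_one l hs hc]
    · intro v hv
      rw [Fn_eq l hs hc, hcc.cent (π v) v.2 hv]
      intro y hy
      exact hcomm y (hcc.mem_of_comm v.2 hv hy) v v.2
  rw [h2] at h1
  have hT2 : 2 ≤ Nat.card T := by
    have := Nat.card_pos (α := T)
    have h3 : Nat.card T ≠ 1 := fun h => hcc.ne_bot (Subgroup.card_eq_one.1 h)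
    omega
  have hTr : (2 : ℝ) ≤ Nat.card T := by exact_mod_cast hT2
  have h4 : (Nat.card π.ker : ℝ) * ((Ov l).card * (Nat.card T - 1)) ≤
      (Nat.card π.ker : ℝ) * ((Nat.card T : ℝ) * (Nat.card T - 1)) := by nlinarith
  have h5 := le_of_mul_le_mul_left h4 hk0
  have h6 := le_of_mul_le_mul_right h5 (by linarith)
  exact_mod_cast h6

end Cfsg.Agent.H404.SzPaw
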